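import Mathlib
import Cfsg.Agent.H448.FprTwF.Idx
import Cfsg.Agent.H248.TwF4Opp
import Cfsg.Agent.H127.TwFInv

/-!
# Fixed points of semisimple elements on the two parabolic coset spaces of `²F₄(q)` (helper67)

`P = N(J lo (lo + 6))`, `lo = 1, 2`.  An element `x ∈ P` of odd prime order `p ∤ q - 1` fixes, besides `P`, only cosets
`r m P` with `r ∈ J lo (lo + 6)`, `m : k ↦ k + 8`; their number is at most the order of the centraliser of `x` in
`J lo (lo + 6)`.
-/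

set_option autoImplicit false
set_option linter.unusedSectionVars false

namespace Cfsg.Agent.H67.RG

open Cfsg.Agent.KFacts.TwF4 Cfsg.Agent.KFacts.TwF4.Full Cfsg.Agent.KFacts.TwF4.SylU
open Cfsg.Agent.SplitTwo Cfsg.Agent.SplitTwo.ZS Cfsg.Agent.TitsThree.RankTwoZ
open Cfsg.Agent.SplitTwo.RootSysZ Subgroup MulAction Cfsg.Agent.H448.FprTwF

universe u

variable {F : Type*} [Field F] {σ : F →+* F} {G : Type u} [Group G] (S : Full σ G)

/-- `g` maps `A` into `A` -/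
def Nrm (A : Subgroup G) (g : G) : Prop := ∀ y ∈ A, g * y * g⁻¹ ∈ A

theorem Nrm.mem [Finite G] {A : Subgroup G} {g : G} (h : Nrm A g) : g ∈ normalizer (A : Set G) := by
  let f : A → A := fun y => ⟨g * y * g⁻¹, h y y.2⟩
  have hinj : Function.Injective f := by
    intro a b hab
    have h1 : g * a * g⁻¹ = g * b * g⁻¹ := congrArg Subtype.val hab
    exact Subtype.ext (mul_left_cancel (mul_right_cancel h1))
  have hsurj := Finite.injective_iff_surjective.1 hinj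
  rw [mem_normalizer_iff]
  intro y
  refine ⟨h y, fun hy => ?_⟩
  obtain ⟨z, hz⟩ := hsurj ⟨g * y * g⁻¹, hy⟩
  have h1 : g * z * g⁻¹ = g * y * g⁻¹ := congrArg Subtype.val hz
  have h2 : (z : G) = y := mul_left_cancel (mul_right_cancel h1)
  rw [← h2]; exact z.2

theorem nrm_of_mem {A : Subgroup G} {g : G} (h : g ∈ normalizer (A : Set G)) : Nrm A g :=
  fun y hy => (mem_normalizer_iff.1 h y).1 hy

theorem conj_normalizer {A B : Subgroup G} {m : G} (hm : ∀ y, y ∈ A ↔ m * y * m⁻¹ ∈ B) {h : G}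
    (hh : m⁻¹ * h * m ∈ normalizer (A : Set G)) : h ∈ normalizer (B : Set G) := by
  rw [mem_normalizer_iff] at hh ⊢
  have key : ∀ y, y ∈ B ↔ m⁻¹ * y * m ∈ A := by
    intro y
    rw [hm]
    have e : m * (m⁻¹ * y * m) * m⁻¹ = y := by group
    rw [e]
  intro y
  rw [key, key, hh]
  have e : m⁻¹ * h * m * (m⁻¹ * y * m) * (m⁻¹ * h * m)⁻¹ = m⁻¹ * (h * y * h⁻¹) * m := by group
  rw [e]

theorem conj_normalizer' {A B : Subgroup G} {m : G} (hm : ∀ y, y ∈ A ↔ m * y * m⁻¹ ∈ B) {h : G}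
    (hh : h ∈ normalizer (B : Set G)) : m⁻¹ * h * m ∈ normalizer (A : Set G) := by
  refine conj_normalizer (A := B) (B := A) (m := m⁻¹) (fun y => ?_) ?_
  · rw [hm]
    have e : m * (m⁻¹ * y * m⁻¹⁻¹) * m⁻¹ = y := by group
    rw [e]
  · have e : m⁻¹⁻¹ * (m⁻¹ * h * m) * m⁻¹ = h := by group
    rwa [e]

/-- a map `k ↦ 2 c + k` on the subgroups `J` -/
theorem maps_J {m : G} {c : ℤ} (hm : Maps S.R.X m (fun k => ((2 * c : ℤ) : ZMod (2 * 8)) + k)) (a b : ℤ) (y : G) :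
    y ∈ J S.XZ a b ↔ m * y * m⁻¹ ∈ J S.XZ (2 * c + a) (2 * c + b) := by
  have h1 := Cfsg.Agent.H248.TwF4Opp.cj_J_add S (w := m) (c := 2 * c) hm a b
  rw [← h1]
  constructor
  · intro hy
    exact ⟨y, hy, rfl⟩
  · rintro ⟨z, hz, he⟩
    have h2 : m * z * m⁻¹ = m * y * m⁻¹ := he
    rw [← mul_left_cancel (mul_right_cancel h2)]
    exact hz

/-- a reflection on the subgroups `J` -/
theorem refl_J {n : G} {c : ℤ} (hn : Refl S.XZ c n) (a b : ℤ) (y : G) :
    y ∈ J S.XZ a b ↔ n * y * n⁻¹ ∈ J S.XZ (c - b) (c - a) := by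
  refine ⟨fun hy => hn.mem_J hy le_rfl le_rfl, fun hy => ?_⟩
  have h1 := hn.mem_J_inv hy (a' := a) (b' := b) (by omega) (by omega)
  have e : n⁻¹ * (n * y * n⁻¹) * n = y := by group
  rwa [e] at h1

section Syl

variable [Finite G] [Finite F]

/-- every `J a (a + 7)` is conjugate to `J 1 8` -/
theorem exists_cj (a : ℤ) : ∃ g : G, ∀ y, y ∈ J S.XZ 1 8 ↔ g * y * g⁻¹ ∈ J S.XZ a (a + 7) := by
  obtain ⟨k, hk | hk⟩ := Int.even_or_odd' a
  · -- `a = 2 k`
    refine ⟨S.rot ^ (k - 1) * S.n1, fun y => ?_⟩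
    rw [refl_J S S.n1_refl 1 8, maps_J S (S.rot_maps (k - 1))]
    have e : S.rot ^ (k - 1) * (S.n1 * y * S.n1⁻¹) * (S.rot ^ (k - 1))⁻¹ =
        S.rot ^ (k - 1) * S.n1 * y * (S.rot ^ (k - 1) * S.n1)⁻¹ := by group
    rw [e, show 2 * (k - 1) + (10 - 8) = a by omega, show 2 * (k - 1) + (10 - 1) = a + 7 by omega]
  · refine ⟨S.rot ^ k, fun y => ?_⟩
    rw [maps_J S (S.rot_maps k), show 2 * k + 1 = a by omega, show 2 * k + 8 = a + 7 by omega]

variable (hF : ∃ c : Fˣ, c ≠ 1) (hR : S.R.p = 2)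

include hR in
theorem two_J' (a : ℤ) {b : ℤ} (h1 : a ≤ b) (h2 : b ≤ a + 7) : IsPGroup 2 (J S.XZ a b) :=
  Cfsg.Agent.H248.TwF4Opp.isPGroup_J' S hR h1 h2

include hF hR in
theorem card_le_U {W : Subgroup G} (hW : IsPGroup 2 W) : Nat.card W ≤ Nat.card (J S.XZ 1 8) := by
  have : Fact (Nat.Prime 2) := ⟨Nat.prime_two⟩
  obtain ⟨P, hP⟩ := exists_sylow S hF hR
  obtain ⟨Q, hQ⟩ := hW.exists_le_sylow
  rw [← hP]
  calc Nat.card W ≤ Nat.card Q := Subgroup.card_le_of_le hQ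
    _ = Nat.card P := Nat.card_congr (Q.equiv P).toEquiv

theorem card_Ja (a : ℤ) : Nat.card (J S.XZ a (a + 7)) = Nat.card (J S.XZ 1 8) := by
  obtain ⟨g, hg⟩ := exists_cj S a
  have hb : ∀ y : J S.XZ a (a + 7), g⁻¹ * (y : G) * g ∈ J S.XZ 1 8 := by
    intro y
    rw [hg]
    have e : g * (g⁻¹ * (y : G) * g) * g⁻¹ = y := by group
    rw [e]; exact y.2
  refine (Nat.card_congr ⟨fun y => ⟨g * y * g⁻¹, (hg _).1 y.2⟩, fun y => ⟨g⁻¹ * y * g, hb y⟩, fun y => ?_, fun y => ?_⟩).symm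
  · apply Subtype.ext
    show g⁻¹ * (g * (y : G) * g⁻¹) * g = y
    group
  · apply Subtype.ext
    show g * (g⁻¹ * (y : G) * g) * g⁻¹ = y
    group

include hF hR in
/-- `J a (a + 7)` is a maximal 2-subgroup -/
theorem eq_J {W : Subgroup G} (hW : IsPGroup 2 W) {a : ℤ} (h : J S.XZ a (a + 7) ≤ W) : W = J S.XZ a (a + 7) := by
  refine (Subgroup.eq_of_le_of_card_ge h ?_).symm
  rw [card_Ja S a]
  exact card_le_U S hF hR hW

include hF hR in
/-- an element of odd prime order normalising `J a (a + 7)` -/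
theorem dvd_of_nrm {p : ℕ} (hp : p.Prime) (hp2 : p ≠ 2) {x : G} (hx : x ^ p = 1) (hx1 : x ≠ 1) {a : ℤ}
    (h : x ∈ normalizer (J S.XZ a (a + 7) : Set G)) : p ∣ Nat.card F - 1 := by
  obtain ⟨g, hg⟩ := exists_cj S a
  have h1 := conj_normalizer' hg h
  obtain ⟨b, hb, t, ht, e⟩ := norm_U S hF hR (mem_normalizer_iff.1 h1)
  have hp' : (g⁻¹ * x * g) ^ p = 1 := by
    have := conj_pow (a := g⁻¹) (b := x) (i := p)
    rw [inv_inv] at this
    rw [this, hx]; group
  refine Cfsg.Agent.PreUniq.LowExc.TwF4.dvd_of_borel (S := S) hF hR hp hp2 hp' ?_ ?_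
  · intro h0
    apply hx1
    have e1 : x = g * (g⁻¹ * x * g) * g⁻¹ := by group
    rw [e1, h0]; group
  · rw [e]
    exact mul_mem (mem_sup_left hb) (mem_sup_right ht)

include hF hR in
/-- two different parabolics which are not opposite: their intersection normalises a Sylow 2-subgroup -/
theorem nrm_of_near {lo : ℤ} {c : ℤ} (h1 : -3 ≤ c) (h2 : c ≤ 3) (h0 : c ≠ 0) {h : G}
    (hh : h ∈ normalizer (J S.XZ lo (lo + 6) : Set G))
    (hh' : h ∈ normalizer (J S.XZ (2 * c + lo) (2 * c + (lo + 6)) : Set G)) :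
    ∃ a : ℤ, h ∈ normalizer (J S.XZ a (a + 7) : Set G) := by
  set A := J S.XZ lo (lo + 6) with hA
  set B := J S.XZ (2 * c + lo) (2 * c + (lo + 6)) with hB
  set V : Subgroup G := normalizer (A : Set G) ⊓ B with hV
  have hAp : IsPGroup 2 A := two_J' S hR lo (by omega) (by omega)
  have hBp : IsPGroup 2 B := two_J' S hR _ (by omega) (by omega)
  have hVp : IsPGroup 2 V := hBp.to_le inf_le_right
  have hW : IsPGroup 2 (V ⊔ A : Subgroup G) := hVp.to_sup_of_normal_right' hAp inf_le_left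
  have hN : J S.XZ (lo - 1) (lo + 7) ≤ normalizer (A : Set G) := by
    have := S.zsys8.le_normalizer (a := lo) (b := lo + 6) (by omega)
    rwa [show lo + 6 + 1 = lo + 7 by ring] at this
  obtain ⟨a, ha⟩ : ∃ a : ℤ, J S.XZ a (a + 7) ≤ V ⊔ A := by
    rcases lt_or_gt_of_ne h0 with hc | hc
    · refine ⟨lo - 1, J_le fun k k1 k2 => ?_⟩
      by_cases hk : k = lo - 1
      · subst hk
        refine le_sup_of_le_left (le_inf ?_ (X_le_J (by omega) (by omega)))
        exact (X_le_J (by omega) (by omega)).trans hN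
      · exact le_sup_of_le_right (X_le_J (by omega) (by omega))
    · refine ⟨lo, J_le fun k k1 k2 => ?_⟩
      by_cases hk : k = lo + 7
      · subst hk
        refine le_sup_of_le_left (le_inf ?_ (X_le_J (by omega) (by omega)))
        exact (X_le_J (by omega) (by omega)).trans hN
      · exact le_sup_of_le_right (X_le_J (by omega) (by omega))
  refine ⟨a, ?_⟩
  rw [← eq_J S hF hR hW ha]
  apply Nrm.mem
  have hVn : Nrm V h := by
    intro y hy
    refine mem_inf.2 ⟨?_, (mem_normalizer_iff.1 hh' y).1 hy.2⟩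
    exact mul_mem (mul_mem hh hy.1) (inv_mem hh)
  have hAn : Nrm A h := nrm_of_mem hh
  intro y hy
  have h3 : V ⊔ A ≤ (V ⊔ A).comap (MulAut.conj h).toMonoidHom :=
    sup_le (fun z hz => (le_sup_left : V ≤ V ⊔ A) (hVn z hz)) (fun z hz => (le_sup_right : A ≤ V ⊔ A) (hAn z hz))
  exact h3 hy

include hF hR in
/-- `X_a ∩ J (a + 1) (a + 8) = 1` -/
theorem X_inf_J {a : ℤ} {y : G} (hy : y ∈ S.XZ a) (hy' : y ∈ J S.XZ (a + 1) (a + 8)) : y = 1 := by
  obtain ⟨k, hk | hk⟩ := Int.even_or_odd' a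
  · have h1 := S.rotk_X' (-k) a hy
    rw [show a + 2 * -k = 0 by omega] at h1
    have h2 := (maps_J S (S.rot_maps (-k)) (a + 1) (a + 8) y).1 hy'
    rw [show 2 * -k + (a + 1) = 1 by omega, show 2 * -k + (a + 8) = 8 by omega] at h2
    have h3 := (S.J07_inf_UT h1 h2 (one_mem S.T) (by rw [mul_one])).1
    have e : y = (S.rot ^ (-k))⁻¹ * (S.rot ^ (-k) * y * (S.rot ^ (-k))⁻¹) * S.rot ^ (-k) := by group
    rw [e, h3]; group
  · -- `a = 2 k + 1`: to `9` by a reflection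
    have h1 := S.rotk_X' (-k) a hy
    rw [show a + 2 * -k = 1 by omega] at h1
    have h2 := (maps_J S (S.rot_maps (-k)) (a + 1) (a + 8) y).1 hy'
    rw [show 2 * -k + (a + 1) = 2 by omega, show 2 * -k + (a + 8) = 9 by omega] at h2
    have h3 := S.n1_refl.mem' h1 (k := 9) (by norm_num)
    have h4 := S.n1_refl.mem_J h2 (a' := 1) (b' := 8) (by norm_num) (by norm_num)
    have h5 := Cfsg.Agent.H127.TwFInv.X9_inf_U S h3 h4
    have e : y = (S.rot ^ (-k))⁻¹ * (S.n1⁻¹ * (S.n1 * (S.rot ^ (-k) * y * (S.rot ^ (-k))⁻¹) * S.n1⁻¹) * S.n1) *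
        S.rot ^ (-k) := by group
    rw [e, h5]; group

include hF hR in
theorem J_inf_succ {a : ℤ} {y : G} (hy : y ∈ J S.XZ a (a + 7)) (hy' : y ∈ J S.XZ (a + 1) (a + 8)) :
    y ∈ J S.XZ (a + 1) (a + 7) := by
  obtain ⟨x, hx, z, hz, rfl⟩ := S.zsys8.split_ll (a := a) (b := a + 7) (by omega) (by omega) hy
  have h1 : x ∈ J S.XZ (a + 1) (a + 8) := by
    have := mul_mem hy' (inv_mem (J_mono le_rfl (by omega) hz : z ∈ J S.XZ (a + 1) (a + 8)))
    rwa [mul_inv_cancel_right] at this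
  rw [X_inf_J S hF hR hx h1, one_mul]
  exact hz

include hF hR in
/-- `J lo (lo + 6) ∩ N(J (lo + 8) (lo + 14)) = 1` -/
theorem inf_opp {lo : ℤ} {y : G} (hy : y ∈ J S.XZ lo (lo + 6))
    (hy' : y ∈ normalizer (J S.XZ (lo + 8) (lo + 14) : Set G)) : y = 1 := by
  set A : Subgroup G := J S.XZ lo (lo + 6) ⊓ normalizer (J S.XZ (lo + 8) (lo + 14) : Set G) with hA
  have hAp : IsPGroup 2 A := (two_J' S hR lo (by omega) (by omega)).to_le inf_le_left
  have hBp : IsPGroup 2 (J S.XZ (lo + 8) (lo + 14)) := two_J' S hR _ (by omega) (by omega)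
  have hN : J S.XZ (lo - 1) (lo + 7) ≤ normalizer (J S.XZ lo (lo + 6) : Set G) := by
    have := S.zsys8.le_normalizer (a := lo) (b := lo + 6) (by omega)
    rwa [show lo + 6 + 1 = lo + 7 by ring] at this
  have hN' : J S.XZ (lo + 7) (lo + 15) ≤ normalizer (J S.XZ (lo + 8) (lo + 14) : Set G) := by
    have := S.zsys8.le_normalizer (a := lo + 8) (b := lo + 14) (by omega)
    rwa [show lo + 14 + 1 = lo + 15 by ring, show lo + 8 - 1 = lo + 7 by ring] at this
  have hper : S.XZ (lo + 15) = S.XZ (lo - 1) := by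
    have := Cfsg.Agent.H248.TwF4Opp.xz_per S (lo - 1) 1
    rwa [show lo - 1 + 16 * 1 = lo + 15 by ring] at this
  -- a root group normalising both
  have key : ∀ (X : Subgroup G), IsPGroup 2 X → X ≤ normalizer (J S.XZ lo (lo + 6) : Set G) →
      X ≤ normalizer (J S.XZ (lo + 8) (lo + 14) : Set G) → ∀ a : ℤ, (∀ k, a ≤ k → k ≤ a + 7 → S.XZ k ≤ X ⊔ J S.XZ (lo + 8) (lo + 14)) →
      A ≤ J S.XZ a (a + 7) := by
    intro X hX h1 h2 a ha
    have hXA : X ≤ normalizer (A : Set G) := by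
      intro x hx
      apply Nrm.mem
      intro z hz
      refine mem_inf.2 ⟨nrm_of_mem (h1 hx) z hz.1, ?_⟩
      exact mul_mem (mul_mem (h2 hx) hz.2) (inv_mem (h2 hx))
    have hW1 : IsPGroup 2 (X ⊔ A : Subgroup G) := hX.to_sup_of_normal_right' hAp hXA
    have hW1n : X ⊔ A ≤ normalizer (J S.XZ (lo + 8) (lo + 14) : Set G) := sup_le h2 inf_le_right
    have hW2 : IsPGroup 2 (X ⊔ A ⊔ J S.XZ (lo + 8) (lo + 14) : Subgroup G) := hW1.to_sup_of_normal_right' hBp hW1n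
    have h3 : J S.XZ a (a + 7) ≤ X ⊔ A ⊔ J S.XZ (lo + 8) (lo + 14) :=
      J_le fun k k1 k2 => (ha k k1 k2).trans (sup_le_sup_right le_sup_left _)
    rw [← eq_J S hF hR hW2 h3]
    exact (le_sup_right : A ≤ X ⊔ A).trans le_sup_left
  have hXp : ∀ k, IsPGroup 2 (S.XZ k) := fun k => by
    have := two_J' S hR k (b := k) le_rfl (by omega)
    rwa [J_self] at this
  have k1 := key (S.XZ (lo + 7)) (hXp _) ((X_le_J (by omega) (by omega)).trans hN) ((X_le_J (by omega) (by omega)).trans hN')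
    (lo + 7) (fun k h1 h2 => by
      by_cases hk : k = lo + 7
      · rw [hk]; exact le_sup_left
      · exact le_sup_of_le_right (X_le_J (by omega) (by omega)))
  have k2 := key (S.XZ (lo + 15)) (hXp _) (by rw [hper]; exact (X_le_J (by omega) (by omega)).trans hN)
    ((X_le_J (by omega) (by omega)).trans hN') (lo + 8) (fun k h1 h2 => by
      by_cases hk : k = lo + 15
      · rw [hk]; exact le_sup_left
      · exact le_sup_of_le_right (X_le_J (by omega) (by omega)))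
  have hyA : y ∈ A := mem_inf.2 ⟨hy, hy'⟩
  have h1 := k1 hyA
  have h2 := k2 hyA
  rw [show lo + 8 = (lo + 7) + 1 by ring, show lo + 7 + 1 + 7 = lo + 7 + 8 by ring] at h2
  have h3 := J_inf_succ S hF hR h1 h2
  have h4 := Cfsg.Agent.H248.TwF4Opp.J_opp S hF hR lo
  have h5 : y ∈ J S.XZ lo (lo + 6) ⊓ J S.XZ (lo + 8) (lo + 14) := by
    refine mem_inf.2 ⟨hy, ?_⟩
    rwa [show lo + 7 + 1 = lo + 8 by ring, show lo + 7 + 7 = lo + 14 by ring] at h3
  rw [h4] at h5
  exact mem_bot.1 h5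

end Syl

end Cfsg.Agent.H67.RG
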