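import Mathlib
import Cfsg.Agent.H67.RG.TwFGeo
import Cfsg.Agent.H249.DP.TwFCent

/-!
# The order of the centraliser of a semisimple element in a parabolic subgroup of `²F₄(q)` (helper67)
-/

set_option autoImplicit false
set_option linter.unusedSectionVars false

namespace Cfsg.Agent.H67.RG

open Cfsg.Agent.KFacts.TwF4 Cfsg.Agent.KFacts.TwF4.Full Cfsg.Agent.KFacts.TwF4.SylU
open Cfsg.Agent.SplitTwo Cfsg.Agent.SplitTwo.ZS Cfsg.Agent.TitsThree.RankTwoZ
open Cfsg.Agent.SplitTwo.RootSysZ Subgroup MulAction Cfsg.Agent.H448.FprTwF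

universe u

variable {F : Type*} [Field F] {σ : F →+* F} {G : Type u} [Group G] (S : Full σ G)

theorem maps_of_refl {n : G} {c : ℤ} (hn : Refl S.XZ c n) : Maps S.R.X n (fun k => ((c : ℤ) : ZMod (2 * 8)) - k) := by
  intro k x
  have h := hn (k.val : ℤ) x
  have hk : (((k.val : ℕ) : ℤ) : ZMod (2 * 8)) = k := by rw [Int.cast_natCast]; exact ZMod.natCast_zmod_val _
  have h1 : x ∈ S.XZ (k.val : ℤ) ↔ x ∈ S.R.X k := by show x ∈ S.R.X _ ↔ _; rw [hk]
  have h2 : n * x * n⁻¹ ∈ S.XZ (c - (k.val : ℤ)) ↔ n * x * n⁻¹ ∈ S.R.X ((c : ZMod (2 * 8)) - k) := by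
    show n * x * n⁻¹ ∈ S.R.X _ ↔ _
    rw [Int.cast_sub, hk]
  rw [← h1, h, h2]

/-- Bruhat form relative to a parabolic containing the reflection `k ↦ 2 s - k` -/
theorem form {s : ℤ} {n : G} (hn : Refl S.XZ (2 * s) n) {P : Subgroup G} (hnP : n ∈ P) (hU : J S.XZ 1 8 ≤ P) (g : G) :
    ∃ b ∈ J S.XZ 1 8, ∃ c : ℤ, -4 ≤ c ∧ c < 4 ∧ ∃ m, Maps S.R.X m (fun k => ((2 * c : ℤ) : ZMod (2 * 8)) + k) ∧
      ∃ p' ∈ P, g = b * m * p' := by
  obtain ⟨b, hb, t, ht, w, ⟨c0, hw⟩, b', hb', rfl⟩ := S.bruhatE g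
  rcases hw with hw | hw
  · obtain ⟨c, h1, h2, h3⟩ := reduce c0 (-4)
    rw [h3] at hw
    exact ⟨b, hb, c, h1, by omega, t * w, torus_mul S ht hw, b', hU hb', by group⟩
  · obtain ⟨c, h1, h2, h3⟩ := reduce (c0 - s) (-4)
    have hm : Maps S.R.X (t * w * n) (fun k => ((2 * c : ℤ) : ZMod (2 * 8)) + k) := by
      have h4 := (torus_mul S ht hw).mul (maps_of_refl S hn)
      intro k x
      have h5 := h4 k x
      rw [← h3]
      have e : ((2 * (c0 - s) : ℤ) : ZMod (2 * 8)) + k = ((2 * c0 : ℤ) : ZMod (2 * 8)) - (((2 * s : ℤ) : ZMod (2 * 8)) - k) := by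
        push_cast; ring
      show t * w * n * x * (t * w * n)⁻¹ ∈ S.R.X (((2 * (c0 - s) : ℤ) : ZMod (2 * 8)) + k) ↔ _
      rw [e]
      exact h5
    exact ⟨b, hb, c, h1, by omega, t * w * n, hm, n⁻¹ * b', mul_mem (inv_mem hnP) (hU hb'), by group⟩

section

variable [Finite G] [Finite F] (hF : ∃ c : Fˣ, c ≠ 1) (hR : S.R.p = 2)

theorem T_le_nJ (a b : ℤ) : S.T ≤ normalizer (J S.XZ a b : Set G) := T_le_N S a b

theorem J_le_nJ (lo : ℤ) : J S.XZ (lo - 1) (lo + 7) ≤ normalizer (J S.XZ lo (lo + 6) : Set G) := by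
  have := S.zsys8.le_normalizer (a := lo) (b := lo + 6) (by omega)
  rwa [show lo + 6 + 1 = lo + 7 by ring] at this

include hF hR in
/-- **fixed cosets are equal or opposite** -/
theorem opp_of_fix {lo s : ℤ} (hlo : lo = 1 ∨ lo = 2) (hs : 2 * s = 2 * lo + 6) {n : G} (hn : Refl S.XZ (2 * s) n)
    {p : ℕ} (hp : p.Prime) (hp2 : p ≠ 2) (hpq : ¬ p ∣ Nat.card F - 1) {x : G} (hx : x ^ p = 1) (hx1 : x ≠ 1)
    (hxP : x ∈ normalizer (J S.XZ lo (lo + 6) : Set G)) {g : G}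
    (hg : g⁻¹ * x * g ∈ normalizer (J S.XZ lo (lo + 6) : Set G)) :
    g ∈ normalizer (J S.XZ lo (lo + 6) : Set G) ∨
      ∃ r ∈ J S.XZ lo (lo + 6), g⁻¹ * (r * S.rot ^ (-4 : ℤ)) ∈ normalizer (J S.XZ lo (lo + 6) : Set G) := by
  set P : Subgroup G := normalizer (J S.XZ lo (lo + 6) : Set G) with hP
  have hUP : J S.XZ 1 8 ≤ P := (J_mono (by omega) (by omega)).trans (J_le_nJ S lo)
  have hTP : S.T ≤ P := T_le_nJ S lo _
  have hnP : n ∈ P := by
    apply Nrm.mem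
    intro y hy
    exact hn.mem_J hy (by omega) (by omega)
  obtain ⟨b, hb, c, hc1, hc2, m, hm, p', hp', rfl⟩ := form S hn hnP hUP g
  have hbP : b ∈ P := hUP hb
  have hh1 : b⁻¹ * x * b ∈ P := mul_mem (mul_mem (inv_mem hbP) hxP) hbP
  have hh2 : m⁻¹ * (b⁻¹ * x * b) * m ∈ P := by
    have e : m⁻¹ * (b⁻¹ * x * b) * m = p' * ((b * m * p')⁻¹ * x * (b * m * p')) * p'⁻¹ := by group
    rw [e]
    exact mul_mem (mul_mem hp' hg) (inv_mem hp')
  have hh3 := conj_normalizer (maps_J S hm lo (lo + 6)) hh2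
  by_cases h0 : c = 0
  · left
    subst h0
    have hmT : m ∈ S.T := by
      intro k z
      have := hm k z
      have e : ((2 * 0 : ℤ) : ZMod (2 * 8)) + k = k := by push_cast; ring
      change m * z * m⁻¹ ∈ S.R.X (((2 * 0 : ℤ) : ZMod (2 * 8)) + k) ↔ _ at this
      rw [e] at this
      exact this
    exact mul_mem (mul_mem hbP (hTP hmT)) hp'
  by_cases h4 : c = -4
  · right
    subst h4
    obtain ⟨r, hr, y, hy, hyP, rfl⟩ : ∃ r ∈ J S.XZ lo (lo + 6), ∃ y : G, (∃ k, (k = lo - 1 ∨ k = lo + 7) ∧ y ∈ S.XZ k) ∧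
        m⁻¹ * y * m ∈ P ∧ b = r * y := by
      have hcase : ∀ k : ℤ, (k = lo - 1 ∨ k = lo + 7) → ∀ y ∈ S.XZ k, m⁻¹ * y * m ∈ P := by
        intro k hk y hy
        have h5 : y ∈ S.XZ (2 * (-4) + (k + 8)) := by rwa [show 2 * (-4) + (k + 8) = k by ring]
        have h6 : m⁻¹ * y * m ∈ J S.XZ (k + 8) (k + 8) := by
          rw [maps_J S hm]
          have e : m * (m⁻¹ * y * m) * m⁻¹ = y := by group
          rw [e, J_self]
          exact h5
        rw [J_self] at h6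
        rcases hk with rfl | rfl
        · exact (X_le_J (by omega) (by omega)).trans (J_le_nJ S lo) h6
        · have h7 := Cfsg.Agent.H248.TwF4Opp.xz_per S (lo - 1) 1
          rw [show lo + 7 + 8 = lo - 1 + 16 * 1 by ring, h7] at h6
          exact (X_le_J (by omega) (by omega)).trans (J_le_nJ S lo) h6
      rcases hlo with rfl | rfl
      · obtain ⟨r, hr, y, hy, e⟩ := S.zsys8.split_rr (a := 1) (b := 8) (by norm_num) (by norm_num) hb
        exact ⟨r, hr, y, ⟨8, by norm_num, hy⟩, hcase 8 (by norm_num) y hy, e⟩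
      · obtain ⟨r, hr, y, hy, e⟩ := S.zsys8.split_lr (a := 1) (b := 8) (by norm_num) (by norm_num) hb
        exact ⟨r, hr, y, ⟨1, by norm_num, hy⟩, hcase 1 (by norm_num) y hy, e⟩
    refine ⟨r, hr, ?_⟩
    have h5 : m⁻¹ * S.rot ^ (-4 : ℤ) ∈ S.T := maps_div S hm (S.rot_maps (-4))
    have e : (r * y * m * p')⁻¹ * (r * S.rot ^ (-4 : ℤ)) = p'⁻¹ * (m⁻¹ * y * m)⁻¹ * (m⁻¹ * S.rot ^ (-4 : ℤ)) := by group
    rw [e]
    exact mul_mem (mul_mem (inv_mem hp') (inv_mem hyP)) (hTP h5)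
  · exfalso
    obtain ⟨a, ha⟩ := nrm_of_near S hF hR (c := c) (by omega) (by omega) h0 hh1 hh3
    apply hpq
    refine dvd_of_nrm S hF hR hp hp2 (x := b⁻¹ * x * b) ?_ ?_ ha
    · have := conj_pow (a := b⁻¹) (b := x) (i := p)
      rw [inv_inv] at this
      rw [this, hx]; group
    · intro h
      apply hx1
      have e : x = b * (b⁻¹ * x * b) * b⁻¹ := by group
      rw [e, h]; group

include hF hR in
/-- **the number of fixed cosets** -/
theorem card_fix_le {lo s : ℤ} (hlo : lo = 1 ∨ lo = 2) (hs : 2 * s = 2 * lo + 6) {n : G} (hn : Refl S.XZ (2 * s) n)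
    {p : ℕ} (hp : p.Prime) (hp2 : p ≠ 2) (hpq : ¬ p ∣ Nat.card F - 1) {x : G} (hx : x ^ p = 1) (hx1 : x ≠ 1)
    (hxP : x ∈ normalizer (J S.XZ lo (lo + 6) : Set G)) :
    Nat.card (fixedBy (G ⧸ normalizer (J S.XZ lo (lo + 6) : Set G)) x) ≤
      Nat.card ↥(J S.XZ lo (lo + 6) ⊓ centralizer ({x} : Set G)) + 1 := by
  classical
  set A := J S.XZ lo (lo + 6) with hA
  set P : Subgroup G := normalizer (A : Set G) with hP
  set D : Subgroup G := A ⊓ centralizer ({x} : Set G) with hD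
  set m : G := S.rot ^ (-4 : ℤ) with hmdef
  have hm : Maps S.R.X m (fun k => ((2 * (-4) : ℤ) : ZMod (2 * 8)) + k) := S.rot_maps (-4)
  -- the opposite radical
  have hB : J S.XZ (2 * (-4) + lo) (2 * (-4) + (lo + 6)) = J S.XZ (lo + 8) (lo + 14) := by
    have := Cfsg.Agent.H248.TwF4Opp.J_per S (2 * (-4) + lo) (2 * (-4) + (lo + 6)) 1
    rw [← this]
    congr 1 <;> ring
  have hAP : A ≤ P := (J_mono (by omega) (by omega)).trans (J_le_nJ S lo)
  have hfix : ∀ g : G, ((g : G) : G ⧸ P) ∈ fixedBy (G ⧸ P) x → g⁻¹ * x * g ∈ P := by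
    intro g hg
    have h1 : ((x * g : G) : G ⧸ P) = (g : G ⧸ P) := hg
    have h2 := QuotientGroup.eq.1 h1.symm
    have e : g⁻¹ * x * g = g⁻¹ * (x * g) := by group
    rwa [e]
  have hopp : ∀ r ∈ A, ((r * m : G) : G ⧸ P) ∈ fixedBy (G ⧸ P) x → r⁻¹ * x * r ∈ normalizer (J S.XZ (lo + 8) (lo + 14) : Set G) := by
    intro r hr h
    have h1 := hfix _ h
    rw [← hB]
    refine conj_normalizer (maps_J S hm lo (lo + 6)) ?_
    have e : m⁻¹ * (r⁻¹ * x * r) * m = (r * m)⁻¹ * x * (r * m) := by group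
    rw [e]
    exact h1
  by_cases hex : ∃ r0 ∈ A, ((r0 * m : G) : G ⧸ P) ∈ fixedBy (G ⧸ P) x
  · obtain ⟨r0, hr0, h0⟩ := hex
    have hy0 := hopp r0 hr0 h0
    let f : Option D → G ⧸ P := fun d => match d with
      | none => ((1 : G) : G ⧸ P)
      | some d => (((d : G) * r0 * m : G) : G ⧸ P)
    have hsub : (fixedBy (G ⧸ P) x) ⊆ Set.range f := by
      intro ω hω
      obtain ⟨g, rfl⟩ := QuotientGroup.mk_surjective ω
      rcases opp_of_fix S hF hR hlo hs hn hp hp2 hpq hx hx1 hxP (hfix g hω) with h1 | ⟨r, hr, h1⟩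
      · refine ⟨none, ?_⟩
        show ((1 : G) : G ⧸ P) = _
        rw [QuotientGroup.eq]
        simpa using h1
      · have e1 : ((g : G) : G ⧸ P) = ((r * m : G) : G ⧸ P) := by
          rw [QuotientGroup.eq]; exact h1
        have h2 : ((r * m : G) : G ⧸ P) ∈ fixedBy (G ⧸ P) x := by rw [← e1]; exact hω
        have h3 := hopp r hr h2
        -- `v = r0⁻¹ r` commutes with `r0⁻¹ x r0`
        have hv : r0⁻¹ * r ∈ A := mul_mem (inv_mem hr0) hr
        have h4 : (r⁻¹ * x * r) * (r0⁻¹ * x * r0)⁻¹ ∈ normalizer (J S.XZ (lo + 8) (lo + 14) : Set G) :=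
          mul_mem h3 (inv_mem hy0)
        have h5 : (r⁻¹ * x * r) * (r0⁻¹ * x * r0)⁻¹ ∈ A := by
          have hy0P : r0⁻¹ * x * r0 ∈ P := mul_mem (mul_mem (inv_mem (hAP hr0)) hxP) (hAP hr0)
          have h6 := nrm_of_mem hy0P _ hv
          have e : (r⁻¹ * x * r) * (r0⁻¹ * x * r0)⁻¹ =
              (r0⁻¹ * r)⁻¹ * ((r0⁻¹ * x * r0) * (r0⁻¹ * r) * (r0⁻¹ * x * r0)⁻¹) := by group
          rw [e]
          exact mul_mem (inv_mem hv) h6
        have h7 := inf_opp S hF hR h5 h4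
        have h8 : r⁻¹ * x * r = r0⁻¹ * x * r0 := mul_inv_eq_one.1 h7
        have h9 : r * r0⁻¹ ∈ D := by
          refine mem_inf.2 ⟨mul_mem hr (inv_mem hr0), ?_⟩
          rw [mem_centralizer_singleton_iff]
          calc r * r0⁻¹ * x = r * (r0⁻¹ * x * r0) * r0⁻¹ := by group
            _ = r * (r⁻¹ * x * r) * r0⁻¹ := by rw [h8]
            _ = x * (r * r0⁻¹) := by group
        refine ⟨some ⟨r * r0⁻¹, h9⟩, ?_⟩
        show ((r * r0⁻¹ * r0 * m : G) : G ⧸ P) = _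
        rw [e1, inv_mul_cancel_right]
    calc Nat.card (fixedBy (G ⧸ P) x) = (fixedBy (G ⧸ P) x).ncard := Nat.card_coe_set_eq _
      _ ≤ (Set.range f).ncard := Set.ncard_le_ncard hsub (Set.toFinite _)
      _ = Nat.card (Set.range f) := (Nat.card_coe_set_eq _).symm
      _ ≤ Nat.card (Option D) := Nat.card_le_card_of_surjective (Set.rangeFactorization f) Set.rangeFactorization_surjective
      _ = Nat.card D + 1 := Finite.card_option
  · push Not at hex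
    have hsub : (fixedBy (G ⧸ P) x) ⊆ {((1 : G) : G ⧸ P)} := by
      intro ω hω
      obtain ⟨g, rfl⟩ := QuotientGroup.mk_surjective ω
      rcases opp_of_fix S hF hR hlo hs hn hp hp2 hpq hx hx1 hxP (hfix g hω) with h1 | ⟨r, hr, h1⟩
      · rw [Set.mem_singleton_iff, eq_comm, QuotientGroup.eq]
        simpa using h1
      · exfalso
        have e1 : ((g : G) : G ⧸ P) = ((r * m : G) : G ⧸ P) := by
          rw [QuotientGroup.eq]; exact h1
        exact hex r hr (by rw [← e1]; exact hω)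
    calc Nat.card (fixedBy (G ⧸ P) x) = (fixedBy (G ⧸ P) x).ncard := Nat.card_coe_set_eq _
      _ ≤ ({((1 : G) : G ⧸ P)} : Set (G ⧸ P)).ncard := Set.ncard_le_ncard hsub (Set.toFinite _)
      _ = 1 := Set.ncard_singleton _
      _ ≤ _ := Nat.le_add_left _ _

end

end Cfsg.Agent.H67.RG
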