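import Mathlib
import Cfsg.Agent.H67.RG.TwFFix

/-!
# The centraliser of a semisimple element in a parabolic subgroup of `²F₄(q)` (helper67)
-/

set_option autoImplicit false
set_option linter.unusedSectionVars false

namespace Cfsg.Agent.H67.RG

open Cfsg.Agent.KFacts.TwF4 Cfsg.Agent.KFacts.TwF4.Full Cfsg.Agent.KFacts.TwF4.SylU
open Cfsg.Agent.SplitTwo Cfsg.Agent.SplitTwo.ZS Cfsg.Agent.TitsThree.RankTwoZ
open Cfsg.Agent.SplitTwo.RootSysZ Subgroup MulAction Cfsg.Agent.H448.FprTwF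

universe u

variable {F : Type*} [Field F] {σ : F →+* F} {G : Type u} [Group G] (S : Full σ G)

theorem refl_T {n : G} {c : ℤ} (hn : Refl S.XZ c n) {t : G} (ht : t ∈ S.T) : n * t * n⁻¹ ∈ S.T := by
  have hm := maps_of_refl S hn
  have h1 : ∀ (k : ZMod (2 * 8)) (x : G), n * t * x * (n * t)⁻¹ ∈ S.R.X (((c : ℤ) : ZMod (2 * 8)) - k) ↔ x ∈ S.R.X k := by
    intro k x
    have e : n * t * x * (n * t)⁻¹ = n * (t * x * t⁻¹) * n⁻¹ := by group
    have h2 := hm k (t * x * t⁻¹)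
    have h3 := ht k x
    simp only [id] at h3
    rw [e, h2, h3]
  intro k x
  have h3 := h1 (((c : ℤ) : ZMod (2 * 8)) - k) (n⁻¹ * x * n)
  have h4 := hm (((c : ℤ) : ZMod (2 * 8)) - k) (n⁻¹ * x * n)
  have e1 : n * (n⁻¹ * x * n) * n⁻¹ = x := by group
  have e2 : n * t * (n⁻¹ * x * n) * (n * t)⁻¹ = n * t * n⁻¹ * x * (n * t * n⁻¹)⁻¹ := by group
  simp only [e1, e2, sub_sub_cancel] at h3 h4
  show n * t * n⁻¹ * x * (n * t * n⁻¹)⁻¹ ∈ S.R.X k ↔ x ∈ S.R.X k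
  rw [h4, h3]

theorem refl_sq {n : G} {c : ℤ} (hn : Refl S.XZ c n) : n * n ∈ S.T := by
  have hm := maps_of_refl S hn
  intro k x
  have h1 := hm k x
  have h2 := hm (((c : ℤ) : ZMod (2 * 8)) - k) (n * x * n⁻¹)
  have e : n * (n * x * n⁻¹) * n⁻¹ = n * n * x * (n * n)⁻¹ := by group
  simp only [e, sub_sub_cancel] at h2
  show n * n * x * (n * n)⁻¹ ∈ S.R.X k ↔ x ∈ S.R.X k
  rw [← h1]
  exact h2

section

variable [Finite G] [Finite F] (hF : ∃ c : Fˣ, c ≠ 1) (hR : S.R.p = 2)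

/-- the data of a parabolic `P = N(A)`, `A = J lo (lo + 6)`, `U = A X_j`, with the reflection `n` -/
structure Par (lo j : ℤ) (n : G) : Prop where
  split : ∀ u ∈ J S.XZ 1 8, ∃ a ∈ J S.XZ lo (lo + 6), ∃ y ∈ S.XZ j, u = a * y
  XU : S.XZ j ≤ J S.XZ 1 8
  AU : J S.XZ lo (lo + 6) ≤ J S.XZ 1 8
  inf : ∀ y ∈ S.XZ j, n * y * n⁻¹ ∈ Bo S → y = 1
  nA : ∀ a ∈ J S.XZ lo (lo + 6), n * a * n⁻¹ ∈ J S.XZ lo (lo + 6)
  nT : ∀ t ∈ S.T, n * t * n⁻¹ ∈ S.T
  nn : n * n ∈ S.T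
  cover : ∀ g ∈ normalizer (J S.XZ lo (lo + 6) : Set G), (∃ u ∈ J S.XZ 1 8, ∃ t ∈ S.T, g = u * t) ∨
      ∃ u ∈ J S.XZ 1 8, ∃ t ∈ S.T, ∃ x ∈ S.XZ j, g = u * t * n * x
  UP : J S.XZ 1 8 ≤ normalizer (J S.XZ lo (lo + 6) : Set G)

theorem par28 : Par S 2 1 S.n1 where
  split u hu := S.zsys8.split_lr (a := 1) (b := 8) (by norm_num) (by norm_num) hu
  XU := X_le_J (by norm_num) (by norm_num)
  AU := J_mono (by norm_num) (by norm_num)
  inf y hy h := by
    have h1 := Cfsg.Agent.H127.TwFInv.X9_inf_BT S (S.n1_refl.mem' hy (k := 9) (by norm_num)) h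
    have e : y = S.n1⁻¹ * (S.n1 * y * S.n1⁻¹) * S.n1 := by group
    rw [e, h1]; group
  nA a ha := S.n1_refl.mem_J ha (by norm_num) (by norm_num)
  nT t ht := refl_T S S.n1_refl ht
  nn := refl_sq S S.n1_refl
  cover := cover28 S
  UP := U_le_N28 S

theorem par17 : Par S 1 8 S.n2 where
  split u hu := S.zsys8.split_rr (a := 1) (b := 8) (by norm_num) (by norm_num) hu
  XU := X_le_J (by norm_num) (by norm_num)
  AU := J_mono (by norm_num) (by norm_num)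
  inf y hy h := by
    have h1 := Cfsg.Agent.H127.TwFInv.X0_inf_BT S (S.n2_refl.mem' hy (k := 0) (by norm_num)) h
    have e : y = S.n2⁻¹ * (S.n2 * y * S.n2⁻¹) * S.n2 := by group
    rw [e, h1]; group
  nA a ha := S.n2_refl.mem_J ha (by norm_num) (by norm_num)
  nT t ht := refl_T S S.n2_refl ht
  nn := refl_sq S S.n2_refl
  cover := cover17 S
  UP := U_le_N17 S

variable {S}

theorem Par.X_inf_A {lo j : ℤ} {n : G} (H : Par S lo j n) {y : G} (hy : y ∈ S.XZ j) (hy' : y ∈ J S.XZ lo (lo + 6)) :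
    y = 1 := H.inf y hy (mem_sup_left (H.AU (H.nA y hy')))

theorem Par.uniq {lo j : ℤ} {n : G} (H : Par S lo j n) {a b a' b' t t' : G} (ha : a ∈ J S.XZ lo (lo + 6))
    (hb : b ∈ S.XZ j) (ha' : a' ∈ J S.XZ lo (lo + 6)) (hb' : b' ∈ S.XZ j) (ht : t ∈ S.T) (ht' : t' ∈ S.T)
    (h : a * b * t = a' * b' * t') : b = b' := by
  have h1 : (a' * b')⁻¹ * (a * b) = t' * t⁻¹ := by
    rw [eq_mul_inv_iff_mul_eq, mul_assoc, h]; group
  have h2 : t' * t⁻¹ = 1 := by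
    apply S.U_inf_T (mul_mem ht' (inv_mem ht))
    rw [← h1]
    exact mul_mem (inv_mem (mul_mem (H.AU ha') (H.XU hb'))) (mul_mem (H.AU ha) (H.XU hb))
  rw [h2, inv_mul_eq_one] at h1
  have h3 : a⁻¹ * a' = b * b'⁻¹ := by
    rw [eq_mul_inv_iff_mul_eq, mul_assoc, h1]; group
  have h4 := H.X_inf_A (mul_mem hb (inv_mem hb')) (by rw [← h3]; exact mul_mem (inv_mem ha) ha')
  exact mul_inv_eq_one.1 h4

include hF hR in
/-- `C_P(x) ∩ U T ≤ A T_j` -/
theorem Par.key {lo j : ℤ} {n : G} (H : Par S lo j n)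
    {p : ℕ} (hp : p.Prime) (hp2 : p ≠ 2) (hpq : ¬ p ∣ Nat.card F - 1) {x : G} (hx : x ^ p = 1) (hx1 : x ≠ 1)
    (hxP : x ∈ normalizer (J S.XZ lo (lo + 6) : Set G)) {c : G} (hc : c ∈ Bo S) (hcx : c * x = x * c) :
    ∃ t ∈ S.Tk j, c * t⁻¹ ∈ J S.XZ lo (lo + 6) := by
  have hAP : J S.XZ lo (lo + 6) ≤ normalizer (J S.XZ lo (lo + 6) : Set G) := H.AU.trans H.UP
  have hBo : ¬ x ∈ Bo S := fun h => hpq (Cfsg.Agent.PreUniq.LowExc.TwF4.dvd_of_borel (S := S) hF hR hp hp2 hx hx1 h)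
  rcases H.cover x hxP with ⟨u, hu, t, ht, e⟩ | ⟨u, hu, t, ht, y, hy, e⟩
  · exact absurd (e ▸ mul_mem (mem_sup_left hu) (mem_sup_right ht)) hBo
  · -- `x' = y x y⁻¹ = b n`
    have hyU := H.XU hy
    obtain ⟨a2, ha2, y2, hy2, e2⟩ := H.split (y * u) (mul_mem hyU hu)
    have ex : y * x * y⁻¹ = a2 * y2 * t * n := by rw [← e2, e]; group
    have hyB : y ∈ Bo S := mem_sup_left hyU
    have hc' : y * c * y⁻¹ ∈ Bo S := mul_mem (mul_mem hyB hc) (inv_mem hyB)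
    have hcx' : y * c * y⁻¹ * (a2 * y2 * t * n) = a2 * y2 * t * n * (y * c * y⁻¹) := by
      rw [← ex]
      calc y * c * y⁻¹ * (y * x * y⁻¹) = y * (c * x) * y⁻¹ := by group
        _ = y * (x * c) * y⁻¹ := by rw [hcx]
        _ = _ := by group
    obtain ⟨u1, hu1, t1, ht1, e1⟩ := Cfsg.Agent.H127.TwFInv.form_BT S hc'
    obtain ⟨a1, ha1, y1, hy1, e3⟩ := H.split u1 hu1
    -- the `X`-part is trivial
    have h1 : y1 = 1 := by
      apply H.inf y1 hy1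
      have e4 : n * y1 * n⁻¹ = (n * a1 * n⁻¹)⁻¹ * ((a2 * y2 * t)⁻¹ * (a1 * y1 * t1) * (a2 * y2 * t)) * (n * t1 * n⁻¹)⁻¹ := by
        have h5 : a1 * y1 * t1 * (a2 * y2 * t) = a2 * y2 * t * (n * (a1 * y1 * t1) * n⁻¹) := by
          have h6 := hcx'
          rw [e1, e3] at h6
          calc a1 * y1 * t1 * (a2 * y2 * t) = a1 * y1 * t1 * (a2 * y2 * t * n) * n⁻¹ := by group
            _ = a2 * y2 * t * n * (a1 * y1 * t1) * n⁻¹ := by rw [h6]
            _ = _ := by group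
        have h7 : (a2 * y2 * t)⁻¹ * (a1 * y1 * t1) * (a2 * y2 * t) = n * (a1 * y1 * t1) * n⁻¹ := by
          rw [mul_assoc, h5]; group
        rw [h7]; group
      rw [e4]
      have hb2 : a2 * y2 * t ∈ Bo S := mul_mem (mem_sup_left (mul_mem (H.AU ha2) (H.XU hy2))) (mem_sup_right ht)
      have hb1 : a1 * y1 * t1 ∈ Bo S := mul_mem (mem_sup_left (mul_mem (H.AU ha1) (H.XU hy1))) (mem_sup_right ht1)
      exact mul_mem (mul_mem (inv_mem (mem_sup_left (H.AU (H.nA _ ha1))))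
        (mul_mem (mul_mem (inv_mem hb2) hb1) hb2)) (inv_mem (mem_sup_right (H.nT _ ht1)))
    subst h1
    rw [mul_one] at e3
    subst e3
    rw [e1] at hcx'
    -- the torus part fixes `y2`
    have h2 : t1 * y2 * t1⁻¹ = y2 := by
      refine H.uniq (a := u1 * (t1 * a2 * t1⁻¹)) (t := t1 * t) (a' := a2 * ((y2 * t) * (n * u1 * n⁻¹) * (y2 * t)⁻¹))
        (t' := t * (n * t1 * n⁻¹)) ?_ ?_ ?_ hy2 (mul_mem ht1 ht) (mul_mem ht (H.nT _ ht1)) ?_
      · exact mul_mem ha1 (S.T_conj_J ht1 ha2)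
      · exact S.T_conj ht1 _ hy2
      · refine mul_mem ha2 ?_
        have h3 : y2 * t ∈ normalizer (J S.XZ lo (lo + 6) : Set G) :=
          mul_mem (H.UP (H.XU hy2)) (T_le_nJ S lo _ ht)
        exact nrm_of_mem h3 _ (H.nA _ ha1)
      · calc u1 * (t1 * a2 * t1⁻¹) * (t1 * y2 * t1⁻¹) * (t1 * t) = u1 * t1 * (a2 * y2 * t * n) * n⁻¹ := by group
          _ = a2 * y2 * t * n * (u1 * t1) * n⁻¹ := by rw [hcx']
          _ = _ := by group
    have h3 : y2 ≠ 1 := by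
      rintro rfl
      rw [mul_one] at ex
      have h4 : (y * x * y⁻¹) * (y * x * y⁻¹) ∈ Bo S := by
        rw [ex]
        have e5 : a2 * t * n * (a2 * t * n) = a2 * (t * (n * a2 * n⁻¹) * t⁻¹) * (t * (n * t * n⁻¹) * (n * n)) := by group
        rw [e5]
        exact mul_mem (mem_sup_left (H.AU (mul_mem ha2 (S.T_conj_J ht (H.nA _ ha2)))))
          (mem_sup_right (mul_mem (mul_mem ht (H.nT _ ht)) H.nn))
      have h5 : x * x ∈ Bo S := by
        have e6 : x * x = y⁻¹ * ((y * x * y⁻¹) * (y * x * y⁻¹)) * y := by group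
        rw [e6]
        exact mul_mem (mul_mem (inv_mem hyB) h4) hyB
      apply hBo
      obtain ⟨k, hk⟩ := hp.eq_two_or_odd'.resolve_left hp2
      have h6 : (x * x) ^ (k + 1) = x := by
        rw [← pow_two, ← pow_mul, show 2 * (k + 1) = p + 1 by omega, pow_succ, hx, one_mul]
      rw [← h6]
      exact pow_mem h5 _
    have h4 := Cfsg.Agent.H248.TwF4Opp.Tk_of_fix S ht1 hy2 h3 h2
    refine ⟨t1, h4, ?_⟩
    have h5 : y * t1⁻¹ = t1⁻¹ * y := by
      have h6 := Subgroup.mem_centralizer_iff.1 (inv_mem h4.2) y hy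
      exact h6
    have e7 : c * t1⁻¹ = y⁻¹ * u1 * y := by
      have e8 : c = y⁻¹ * (y * c * y⁻¹) * y := by group
      rw [e8, e1]
      calc y⁻¹ * (u1 * t1) * y * t1⁻¹ = y⁻¹ * (u1 * t1) * (y * t1⁻¹) := by group
        _ = y⁻¹ * (u1 * t1) * (t1⁻¹ * y) := by rw [h5]
        _ = _ := by group
    rw [e7]
    have h7 := nrm_of_mem (inv_mem (H.UP hyU)) u1 ha1
    rwa [inv_inv] at h7

include hF hR in
theorem Par.card_inf {lo j : ℤ} {n : G} (H : Par S lo j n)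
    {p : ℕ} (hp : p.Prime) (hp2 : p ≠ 2) (hpq : ¬ p ∣ Nat.card F - 1) {x : G} (hx : x ^ p = 1) (hx1 : x ≠ 1)
    (hxP : x ∈ normalizer (J S.XZ lo (lo + 6) : Set G)) :
    Nat.card ↥(Bo S ⊓ centralizer ({x} : Set G)) ≤
      Nat.card ↥(J S.XZ lo (lo + 6) ⊓ centralizer ({x} : Set G)) * Nat.card (S.Tk j) := by
  classical
  set D : Subgroup G := J S.XZ lo (lo + 6) ⊓ centralizer ({x} : Set G) with hD
  set C : Subgroup G := Bo S ⊓ centralizer ({x} : Set G) with hC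
  have h1 : ∀ c : C, ∃ t : S.Tk j, (c : G) * (t : G)⁻¹ ∈ J S.XZ lo (lo + 6) := by
    intro c
    obtain ⟨t, ht, h⟩ := H.key hF hR hp hp2 hpq hx hx1 hxP c.2.1 (mem_centralizer_singleton_iff.1 c.2.2)
    exact ⟨⟨t, ht⟩, h⟩
  choose f hf using h1
  have h2 : ∀ c c' : C, f c = f c' → (c : G) * (c' : G)⁻¹ ∈ D := by
    intro c c' h
    refine mem_inf.2 ⟨?_, mul_mem c.2.2 (inv_mem c'.2.2)⟩
    have h3 := mul_mem (hf c) (inv_mem (hf c'))
    rw [← h] at h3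
    have e : (c : G) * (f c : G)⁻¹ * ((c' : G) * (f c : G)⁻¹)⁻¹ = (c : G) * (c' : G)⁻¹ := by group
    rwa [e] at h3
  have : Nonempty C := ⟨1⟩
  let s := Function.invFun f
  have hs : ∀ c, f (s (f c)) = f c := fun c => Function.invFun_eq ⟨c, rfl⟩
  let F' : C → D × S.Tk j := fun c => (⟨(c : G) * (s (f c) : G)⁻¹, h2 _ _ (hs c).symm⟩, f c)
  have hF' : Function.Injective F' := by
    intro c c' h
    have h3 : f c = f c' := congrArg Prod.snd h
    have h4 : (c : G) * (s (f c) : G)⁻¹ = (c' : G) * (s (f c') : G)⁻¹ := congrArg Subtype.val (congrArg Prod.fst h)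
    rw [h3] at h4
    exact Subtype.ext (mul_right_cancel h4)
  calc Nat.card C ≤ Nat.card (D × S.Tk j) := Nat.card_le_card_of_injective F' hF'
    _ = _ := Nat.card_prod _ _

include hF hR in
/-- **the centraliser in the parabolic** -/
theorem Par.card_cent {lo j : ℤ} {n : G} (H : Par S lo j n)
    {p : ℕ} (hp : p.Prime) (hp2 : p ≠ 2) (hpq : ¬ p ∣ Nat.card F - 1) {x : G} (hx : x ^ p = 1) (hx1 : x ≠ 1)
    (hxP : x ∈ normalizer (J S.XZ lo (lo + 6) : Set G)) :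
    Nat.card ↥(normalizer (J S.XZ lo (lo + 6) : Set G) ⊓ centralizer ({x} : Set G)) ≤
      (Nat.card (S.XZ j) + 1) *
        (Nat.card ↥(J S.XZ lo (lo + 6) ⊓ centralizer ({x} : Set G)) * Nat.card (S.Tk j)) := by
  set P := normalizer (J S.XZ lo (lo + 6) : Set G) with hP
  set C : Subgroup G := P ⊓ centralizer ({x} : Set G) with hC
  have hBP : Bo S ≤ P := sup_le H.UP (T_le_nJ S lo _)
  have h1 : (Bo S).relIndex P ≤ Nat.card (S.XZ j) + 1 := by
    have h2 := card_le S H.cover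
    rw [← Subgroup.card_mul_index ((Bo S).subgroupOf P)] at h2
    have h3 : Nat.card ((Bo S).subgroupOf P) = Nat.card (Bo S) := Nat.card_congr (Subgroup.subgroupOfEquivOfLe hBP).toEquiv
    rw [h3] at h2
    exact Nat.le_of_mul_le_mul_left h2 Nat.card_pos
  have h2 : (Bo S).relIndex C ≤ (Bo S).relIndex P :=
    Subgroup.relIndex_le_of_le_right inf_le_left Subgroup.index_ne_zero_of_finite
  have h3 : Nat.card ((Bo S).subgroupOf C) * (Bo S).relIndex C = Nat.card C := Subgroup.card_mul_index _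
  have h4 : Nat.card ((Bo S).subgroupOf C) ≤ Nat.card ↥(Bo S ⊓ centralizer ({x} : Set G)) := by
    refine Nat.card_le_card_of_injective (fun y => (⟨((y : C) : G), mem_inf.2 ⟨mem_subgroupOf.1 y.2, (y : C).2.2⟩⟩ :
      ↥(Bo S ⊓ centralizer ({x} : Set G)))) ?_
    intro a b hab
    apply Subtype.ext
    apply Subtype.ext
    have h5 := congrArg (fun z : ↥(Bo S ⊓ centralizer ({x} : Set G)) => (z : G)) hab
    exact h5
  rw [← h3, mul_comm]
  exact Nat.mul_le_mul (h2.trans h1) (h4.trans (H.card_inf hF hR hp hp2 hpq hx hx1 hxP))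

theorem card_Tk1 : Nat.card (S.Tk 1) ≤ Nat.card F - 1 := by
  classical
  have h : ∀ t : S.Tk 1, ∃ c : Fˣ, S.h c c⁻¹ = t := fun t => S.mem_Tk_one.1 t.2
  choose f hf using h
  have hinj : Function.Injective f := by
    intro a b hab
    apply Subtype.ext
    rw [← hf a, ← hf b, hab]
  calc Nat.card (S.Tk 1) ≤ Nat.card Fˣ := Nat.card_le_card_of_injective f hinj
    _ = _ := Nat.card_units F

theorem card_Tk8 : Nat.card (S.Tk 8) ≤ Nat.card F - 1 := by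
  classical
  have h : ∀ t : S.Tk 8, ∃ c : Fˣ, S.h 1 c = S.ck (-4) t := fun t => S.mem_Tk_zero.1 (by
    have := S.ck_Tk (-4) t.2
    rwa [show (8 : ℤ) + 2 * (-4) = 0 by norm_num] at this)
  choose f hf using h
  have hinj : Function.Injective f := by
    intro a b hab
    apply Subtype.ext
    have h1 : S.ck (-4) (a : G) = S.ck (-4) b := by rw [← hf a, ← hf b, hab]
    exact mul_left_cancel (mul_right_cancel h1)
  calc Nat.card (S.Tk 8) ≤ Nat.card Fˣ := Nat.card_le_card_of_injective f hinj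
    _ = _ := Nat.card_units F

include hF hR in
/-- **class 2B**: `|C(x)| ≤ (|D| + 1) |D| (q + 1) (q - 1)` -/
theorem card_cent28 {p : ℕ} (hp : p.Prime) (hp2 : p ≠ 2) (hpq : ¬ p ∣ Nat.card F - 1) {x : G} (hx : x ^ p = 1)
    (hx1 : x ≠ 1) (hxP : x ∈ normalizer (J S.XZ 2 8 : Set G)) :
    Nat.card ↥(centralizer ({x} : Set G)) ≤
      (Nat.card ↥(J S.XZ 2 8 ⊓ centralizer ({x} : Set G)) + 1) *
        ((Nat.card F + 1) * (Nat.card ↥(J S.XZ 2 8 ⊓ centralizer ({x} : Set G)) * (Nat.card F - 1))) := by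
  have h1 := card_fix_le S hF hR (lo := 2) (s := 5) (Or.inr rfl) (by norm_num) (n := S.n1) (by
    rw [show (2 : ℤ) * 5 = 10 by norm_num]; exact S.n1_refl) hp hp2 hpq hx hx1 hxP
  have h2 := (par28 S).card_cent hF hR hp hp2 hpq hx hx1 hxP
  have h3 := Cfsg.Agent.H249.DP.TwF.card_centralizer_le hxP
  rw [show (2 : ℤ) + 6 = 8 by norm_num] at h1 h2
  rw [card_X1' S] at h2
  refine h3.trans (Nat.mul_le_mul h1 (h2.trans ?_))
  exact Nat.mul_le_mul le_rfl (Nat.mul_le_mul le_rfl card_Tk1)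

include hF hR in
/-- **class 2A**: `|C(x)| ≤ (|D| + 1) |D| (q² + 1) (q - 1)` -/
theorem card_cent17 {p : ℕ} (hp : p.Prime) (hp2 : p ≠ 2) (hpq : ¬ p ∣ Nat.card F - 1) {x : G} (hx : x ^ p = 1)
    (hx1 : x ≠ 1) (hxP : x ∈ normalizer (J S.XZ 1 7 : Set G)) :
    Nat.card ↥(centralizer ({x} : Set G)) ≤
      (Nat.card ↥(J S.XZ 1 7 ⊓ centralizer ({x} : Set G)) + 1) *
        ((Nat.card F ^ 2 + 1) * (Nat.card ↥(J S.XZ 1 7 ⊓ centralizer ({x} : Set G)) * (Nat.card F - 1))) := by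
  have h1 := card_fix_le S hF hR (lo := 1) (s := 4) (Or.inl rfl) (by norm_num) (n := S.n2) (by
    rw [show (2 : ℤ) * 4 = 8 by norm_num]; exact S.n2_refl) hp hp2 hpq hx hx1 hxP
  have h2 := (par17 S).card_cent hF hR hp hp2 hpq hx hx1 hxP
  have h3 := Cfsg.Agent.H249.DP.TwF.card_centralizer_le hxP
  rw [show (1 : ℤ) + 6 = 7 by norm_num] at h1 h2
  rw [card_X8' S] at h2
  refine h3.trans (Nat.mul_le_mul h1 (h2.trans ?_))
  exact Nat.mul_le_mul le_rfl (Nat.mul_le_mul le_rfl card_Tk8)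

end

end Cfsg.Agent.H67.RG
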