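import Mathlib
import Cfsg.Agent.H67.RG.TwFBor
import Cfsg.Agent.H448.FprTwF.SzPair
import Cfsg.Agent.H448.FprTwF.Cyc
import Cfsg.Agent.KFacts.TwF4.Layers

/-!
# Centralisers of semisimple elements in the radicals of the maximal parabolics of `²F₄(q)` (helper67)
-/

set_option autoImplicit false
set_option linter.unusedSectionVars false

namespace Cfsg.Agent.H67.RG

open Cfsg.Agent.KFacts.TwF4 Cfsg.Agent.KFacts.TwF4.Full Cfsg.Agent.KFacts.TwF4.SylU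
open Cfsg.Agent.SplitTwo Cfsg.Agent.SplitTwo.ZS Cfsg.Agent.TitsThree.RankTwoZ
open Cfsg.Agent.SplitTwo.RootSysZ Subgroup MulAction Cfsg.Agent.H448.FprTwF

universe u

theorem card_le_of_fib {G : Type*} [Group G] [Finite G] {D E : Subgroup G} {T : Type*} [Finite T] (f : D → T)
    (h : ∀ c c' : D, f c = f c' → (c : G) * (c' : G)⁻¹ ∈ E) : Nat.card D ≤ Nat.card E * Nat.card T := by
  classical
  have : Nonempty D := ⟨1⟩
  let s := Function.invFun f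
  have hs : ∀ c, f (s (f c)) = f c := fun c => Function.invFun_eq ⟨c, rfl⟩
  let F' : D → E × T := fun c => (⟨(c : G) * (s (f c) : G)⁻¹, h _ _ (hs c).symm⟩, f c)
  have hF' : Function.Injective F' := by
    intro c c' hc
    have h3 : f c = f c' := congrArg Prod.snd hc
    have h4 : (c : G) * (s (f c) : G)⁻¹ = (c' : G) * (s (f c') : G)⁻¹ := congrArg Subtype.val (congrArg Prod.fst hc)
    rw [h3] at h4
    exact Subtype.ext (mul_right_cancel h4)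
  calc Nat.card D ≤ Nat.card (E × T) := Nat.card_le_card_of_injective F' hF'
    _ = _ := Nat.card_prod _ _

variable {F : Type*} [Field F] {σ : F →+* F} {G : Type u} [Group G] (S : Full σ G)

section

variable [Finite G] [Finite F] (hF : ∃ c : Fˣ, c ≠ 1) (hR : S.R.p = 2)

theorem card_Zc (a : ZMod 8) : Nat.card (S.Zc a) ≤ Nat.card F := by
  have h : ∀ z : S.Zc a, ∃ u, S.e a 0 u = z := fun z => z.2
  choose f hf using h
  refine Nat.card_le_card_of_injective f fun z z' hz => Subtype.ext ?_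
  rw [← hf z, ← hf z', hz]

include hF hR in
/-- **class 2A**: `|C_Q(x)| ≤ q²` -/
theorem card_D17 {p : ℕ} (hp : p.Prime) (hp2 : p ≠ 2) (hpq : ¬ p ∣ Nat.card F - 1) {x : G} (hx : orderOf x = p)
    (hxP : x ∈ S.PL) : Nat.card ↥(J S.XZ 1 7 ⊓ centralizer ({x} : Set G)) ≤ Nat.card F ^ 2 := by
  have hfact : Fact p.Prime := ⟨hp⟩
  have hxp : x ^ p = 1 := by rw [← hx]; exact pow_orderOf_eq_one x
  have hx1 : x ≠ 1 := by
    rintro rfl
    rw [orderOf_one] at hx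
    exact hp.one_lt.ne hx
  have hpl : ∀ s ∈ S.Q2, x * s = s * x → s ∈ S.Zc 2 := by
    intro s hs h
    by_contra h4
    exact hpq (Cfsg.Agent.PreUniq.LowExc.TwF4.pl_case S hF hR hp hp2 hxp hx1 hxP hs h4 h)
  have hQ1 : ∀ c : ↥(J S.XZ 1 7 ⊓ centralizer ({x} : Set G)), (c : G) ∈ S.Q1 := fun c =>
    cent_Q1 S hR hp2 hxP hx hpl c.2.1 (mem_centralizer_singleton_iff.1 c.2.2).symm
  have hform : ∀ c : ↥(J S.XZ 1 7 ⊓ centralizer ({x} : Set G)), ∃ a : F, ∃ z ∈ S.Q2, (c : G) = S.e 2 a 0 * z := by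
    intro c
    obtain ⟨y, hy, z, hz, e⟩ := mem_sup_of_norm (A := S.XZ 4) (B := S.Q2) (fun a ha b hb => by
      have h1 := S.Q1_comm (mem_sup_left ha : a ∈ S.Q1) hb
      rw [h1, mul_inv_cancel_right]; exact hb) (hQ1 c)
    obtain ⟨a, b, rfl⟩ := S.X4 hy
    refine ⟨a, S.e 2 0 b * z, mul_mem (S.q2_3 b) hz, ?_⟩
    rw [e, ← mul_assoc, S.e_mul, map_zero, mul_zero, add_zero, zero_add, add_zero]
  choose f z hz hf using hform
  have h1 := card_le_of_fib (E := S.Zc 2) f (fun c c' h => by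
    have hc : (c : G) * (c' : G)⁻¹ ∈ S.Q2 := by
      rw [hf c, hf c', h]
      have e : S.e 2 (f c') 0 * z c * (S.e 2 (f c') 0 * z c')⁻¹ = S.e 2 (f c') 0 * (z c * (z c')⁻¹) * (S.e 2 (f c') 0)⁻¹ := by
        group
      have h2 := S.Q1_comm (mem_sup_left (S.mX4 (f c') 0) : S.e 2 (f c') 0 ∈ S.Q1) (mul_mem (hz c) (inv_mem (hz c')))
      rw [e, h2, mul_inv_cancel_right]
      exact mul_mem (hz c) (inv_mem (hz c'))
    refine hpl _ hc ?_
    exact (mem_centralizer_singleton_iff.1 (mul_mem c.2.2 (inv_mem c'.2.2))).symm)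
  calc _ ≤ Nat.card (S.Zc 2) * Nat.card F := h1
    _ ≤ Nat.card F * Nat.card F := Nat.mul_le_mul (card_Zc S 2) le_rfl
    _ = _ := (pow_two _).symm

/-- `P` acts on `V5` -/
theorem conj_X5 {g y : G} (hg : g ∈ normalizer (J S.XZ 2 8 : Set G)) (hy : y ∈ S.XZ 5) : g * y * g⁻¹ ∈ S.V5 := by
  have hJ : J S.XZ 1 8 ≤ J S.XZ 1 9 := J_mono le_rfl (by norm_num)
  have key : ∀ u ∈ J S.XZ 1 8, ∀ t ∈ S.T, u * t * y * (u * t)⁻¹ ∈ S.V5 := by
    intro u hu t ht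
    have h1 : t * y * t⁻¹ ∈ S.XZ 5 := S.T_conj ht 5 hy
    have h2 := S.comm_five (hJ hu) h1
    have e : u * t * y * (u * t)⁻¹ = (u * (t * y * t⁻¹) * u⁻¹ * (t * y * t⁻¹)⁻¹) * (t * y * t⁻¹) := by group
    rw [e]
    exact mul_mem (mem_sup_left h2) (mem_sup_right h1)
  rcases cover28 S g hg with ⟨u, hu, t, ht, rfl⟩ | ⟨u, hu, t, ht, x, hx, rfl⟩
  · exact key u hu t ht
  · have h1 : S.n1 * x ∈ S.LO := mul_mem S.n1_mem_LO (mem_sup_left hx)
    have h2 : y * (S.n1 * x) = S.n1 * x * y := mem_centralizer_iff.1 (S.LO_le_cent h1) y hy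
    have e : u * t * S.n1 * x * y * (u * t * S.n1 * x)⁻¹ = u * t * (S.n1 * x * y) * (S.n1 * x)⁻¹ * (u * t)⁻¹ := by group
    rw [e, ← h2]
    have e2 : u * t * (y * (S.n1 * x)) * (S.n1 * x)⁻¹ * (u * t)⁻¹ = u * t * y * (u * t)⁻¹ := by group
    rw [e2]
    exact key u hu t ht

/-- the part in `W46` of an element of `V5` commuting with `x ∈ HO` -/
theorem mem_X5_of_V5 (hF : ∃ c : Fˣ, c ≠ 1) (hR : S.R.p = 2) {p : ℕ} (hp : p.Prime) (hp2 : p ≠ 2)
    (hpq : ¬ p ∣ Nat.card F - 1) {x : G} (hx : x ^ p = 1) (hx1 : x ≠ 1) (hxH : x ∈ S.HO) {v : G} (hv : v ∈ S.V5)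
    (hc : v * x = x * v) : v ∈ S.XZ 5 := by
  obtain ⟨w, hw, y, hy, rfl⟩ := Cfsg.Agent.KFacts.TwF4.Layers.V5_form S hv
  have hyx : y * x = x * y := mem_centralizer_iff.1 (S.HO_le_cent hxH) y hy
  have hwx : x * w = w * x := by
    have h1 : w * (x * y) = x * w * y := by rw [← hyx, ← mul_assoc, hc, mul_assoc]
    rw [← mul_assoc] at h1
    exact (mul_right_cancel h1).symm
  have hw1 : w = 1 := by
    by_contra hw1
    exact hpq (Cfsg.Agent.PreUniq.LowExc.TwF4.ho_case S hF hR hp hp2 hx hx1 hxH hw hw1 hwx)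
  rw [hw1, one_mul]
  exact hy

theorem HO_le_N28 : S.HO ≤ normalizer (J S.XZ 2 8 : Set G) := (Cfsg.Agent.KFacts.TwF4.Perf.HO_le_J S).trans (J19_le_N28 S)

include hF hR in
/-- **the involutions of `C_{J 2 8}(x)`** -/
theorem inv_mem_X5 {p : ℕ} (hp : p.Prime) (hp2 : p ≠ 2) (hpq : ¬ p ∣ Nat.card F - 1) {x : G} (hx : orderOf x = p)
    (hxH : x ∈ S.HO) {s : G} (hs : s ∈ J S.XZ 2 8) (hs2 : s * s = 1) (hsx : s * x = x * s) : s ∈ S.XZ 5 := by
  have hfact : Fact p.Prime := ⟨hp⟩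
  have hxp : x ^ p = 1 := by rw [← hx]; exact pow_orderOf_eq_one x
  have hx1 : x ≠ 1 := by
    rintro rfl
    rw [orderOf_one] at hx
    exact hp.one_lt.ne hx
  by_cases hs1 : s = 1
  · rw [hs1]; exact one_mem _
  have hcen : ∀ k : G, k * x * k⁻¹ * (k * s * k⁻¹) = k * s * k⁻¹ * (k * x * k⁻¹) := by
    intro k
    calc k * x * k⁻¹ * (k * s * k⁻¹) = k * (x * s) * k⁻¹ := by group
      _ = k * (s * x) * k⁻¹ := by rw [hsx]
      _ = _ := by group
  have hbt : ∀ {K : Subgroup G} {n : ℕ} {y : G}, Nat.card K = Nat.card ↥(K ⊓ (J S.XZ 1 8 ⊔ S.T)) * n → y ∈ K →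
      orderOf y = p → p ∣ n := by
    intro K n y hK hy ho
    have h1 : p ∣ Nat.card K := by
      rw [← ho]
      exact Subgroup.orderOf_dvd_natCard K hy
    rw [hK] at h1
    rcases hp.dvd_mul.1 h1 with h2 | h2
    · exact absurd (Cfsg.Agent.H127.TwFInv.prime_BT S hR hp hp2 (h2.trans (Subgroup.card_dvd_of_le inf_le_right))) hpq
    · exact h2
  rcases classes S hF hR hs2 hs1 with ⟨u, hu, k, hk⟩ | ⟨r, hr, k, hk⟩
  · exfalso
    have e1 : S.rot * (S.rot * k) * s * (S.rot * (S.rot * k))⁻¹ = S.e 2 0 u := by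
      calc S.rot * (S.rot * k) * s * (S.rot * (S.rot * k))⁻¹ = S.rot * (S.rot * (k * s * k⁻¹) * S.rot⁻¹) * S.rot⁻¹ := by
            group
        _ = S.e 2 0 u := by rw [hk, S.rot_e, S.rot_e]; rfl
    have hz1 : S.e 2 0 u ≠ 1 := fun h => hu (S.e_eq_one h).2
    set g := S.rot * (S.rot * k)
    have h1 : g * x * g⁻¹ ∈ S.PL := by
      rw [← S.centralizer_z (z := S.e 2 0 u) ⟨u, rfl⟩ hz1, Subgroup.mem_centralizer_singleton_iff, ← e1]
      exact hcen _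
    have h2 := hbt (Cfsg.Agent.H127.TwFInv.card_PL S) h1 (by
      rw [← hx]
      exact orderOf_injective (MulAut.conj g).toMonoidHom (MulAut.conj g).injective x)
    have h3 := hbt (Cfsg.Agent.H127.TwFInv.card_HO S) hxH hx
    have h4 : p ∣ 2 := by
      have hq : 1 ≤ Nat.card F := Nat.card_pos
      obtain ⟨q, hq'⟩ : ∃ q, Nat.card F = q + 1 := ⟨Nat.card F - 1, by omega⟩
      rw [hq'] at h2 h3
      have h5 : 1 + (q + 1) * (q + 1) = (1 + (q + 1)) * q + 2 := by ring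
      rw [h5] at h2
      exact (Nat.dvd_add_right (h3.mul_right q)).1 h2
    exact hp2 ((Nat.prime_dvd_prime_iff_eq hp Nat.prime_two).1 h4)
  · have e1 : S.rot * (S.rot * k) * s * (S.rot * (S.rot * k))⁻¹ = S.o 2 r := by
      calc S.rot * (S.rot * k) * s * (S.rot * (S.rot * k))⁻¹ = S.rot * (S.rot * (k * s * k⁻¹) * S.rot⁻¹) * S.rot⁻¹ := by
            group
        _ = S.o 2 r := by rw [hk, S.rot_o, S.rot_o]; rfl
    set h := S.rot * (S.rot * k)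
    have h1 : h * x * h⁻¹ ∈ S.HO := by
      rw [← S.centralizer_o hr, Subgroup.mem_centralizer_singleton_iff, ← e1]
      exact hcen _
    -- `g = h⁻¹`
    have hg : (h⁻¹)⁻¹ * x * h⁻¹ ∈ normalizer (J S.XZ 2 (2 + 6) : Set G) := by
      rw [inv_inv, show (2 : ℤ) + 6 = 8 by norm_num]
      exact HO_le_N28 S h1
    have hxP : x ∈ normalizer (J S.XZ 2 (2 + 6) : Set G) := by
      rw [show (2 : ℤ) + 6 = 8 by norm_num]
      exact HO_le_N28 S hxH
    have es : s = h⁻¹ * S.o 2 r * h⁻¹⁻¹ := by rw [← e1]; group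
    have h5 : S.o 2 r ∈ S.XZ 5 := S.mX5 r
    rcases opp_of_fix S hF hR (lo := 2) (s := 5) (Or.inr rfl) (by norm_num) (n := S.n1) (by
      rw [show (2 : ℤ) * 5 = 10 by norm_num]; exact S.n1_refl) hp hp2 hpq hxp hx1 hxP hg with h2 | ⟨r', hr', h2⟩
    · rw [show (2 : ℤ) + 6 = 8 by norm_num] at h2
      refine mem_X5_of_V5 S hF hR hp hp2 hpq hxp hx1 hxH ?_ hsx
      rw [es]
      exact conj_X5 S h2 h5
    · exfalso
      rw [show (2 : ℤ) + 6 = 8 by norm_num] at h2 hr'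
      set m : G := S.rot ^ (-4 : ℤ) with hmdef
      have hm : Maps S.R.X m (fun k => ((2 * (-4) : ℤ) : ZMod (2 * 8)) + k) := S.rot_maps (-4)
      set d := h⁻¹⁻¹ * (r' * m) with hd
      have e2 : h⁻¹ = r' * m * d⁻¹ := by rw [hd]; group
      have h6 : d⁻¹ * S.o 2 r * d⁻¹⁻¹ ∈ J S.XZ 2 8 :=
        J_mono (by norm_num) (by norm_num) (S.V5_le_NO (conj_X5 S (inv_mem h2) h5)).1
      have h7 := (maps_J S hm 2 8 _).1 h6
      have hB : J S.XZ (2 * (-4) + 2) (2 * (-4) + 8) = J S.XZ 10 16 := by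
        have := Cfsg.Agent.H248.TwF4Opp.J_per S (2 * (-4) + 2) (2 * (-4) + 8) 1
        rw [← this]
        norm_num
      rw [hB] at h7
      have e3 : m * (d⁻¹ * S.o 2 r * d⁻¹⁻¹) * m⁻¹ = r'⁻¹ * s * r' := by
        rw [es, e2]; group
      rw [e3] at h7
      have h8 : r'⁻¹ * s * r' ∈ J S.XZ 2 8 := mul_mem (mul_mem (inv_mem hr') hs) hr'
      have h9 := Cfsg.Agent.H248.TwF4Opp.J_opp S hF hR 2
      have h10 : r'⁻¹ * s * r' ∈ J S.XZ 2 (2 + 6) ⊓ J S.XZ (2 + 8) (2 + 14) := by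
        rw [show (2 : ℤ) + 6 = 8 by norm_num, show (2 : ℤ) + 8 = 10 by norm_num, show (2 : ℤ) + 14 = 16 by norm_num]
        exact ⟨h8, h7⟩
      rw [h9, mem_bot] at h10
      apply hs1
      have e4 : s = r' * (r'⁻¹ * s * r') * r'⁻¹ := by group
      rw [e4, h10]; group

/-- the square of an element of `Z_2 X_3 X_4 X_5 X_6` -/
theorem sq_form (u t a b c d f : F) :
    S.e 1 0 u * S.o 1 t * (S.e 2 a b * S.o 2 c * S.e 3 d f) * (S.e 1 0 u * S.o 1 t * (S.e 2 a b * S.o 2 c * S.e 3 d f)) =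
      S.e 2 0 (a * σ a + t * d) * S.e 3 0 (d * σ d) * S.o 2 (a * d) := by
  have E1 : S.e 1 0 u * S.o 1 t = S.o 1 t * S.e 1 0 u := S.e_o0 1 0 u t
  have E2 : S.e 1 0 u * S.e 2 a b = S.e 2 a b * S.e 1 0 u := by
    have := S.e_e1 1 0 u a b
    rw [zero_mul, S.o_zero, mul_one] at this
    exact this
  have E3 : S.e 1 0 u * S.o 2 c = S.o 2 c * S.e 1 0 u := by
    have := S.e_o1 1 0 u c
    rw [zero_mul, S.e_zero, mul_one] at this
    exact this
  have E4 : S.e 1 0 u * S.e 3 d f = S.e 3 d f * S.e 1 0 u := S.e_e2 1 0 u d f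
  have O2 : S.o 1 t * S.e 2 a b = S.e 2 a b * S.o 1 t := S.o_e1 1 t a b
  have O3 : S.o 1 t * S.o 2 c = S.o 2 c * S.o 1 t := S.o_o1 1 t c
  have O4 : S.o 1 t * S.e 3 d f = S.e 3 d f * S.o 1 t * S.e 2 0 (t * d) := S.o_e2 1 t d f
  have A3 : S.e 2 a b * S.o 2 c = S.o 2 c * S.e 2 a b := S.e_o0 2 a b c
  have A4 : S.e 2 a b * S.e 3 d f = S.e 3 d f * S.e 2 a b * S.o 2 (a * d) := S.e_e1 2 a b d f
  have C4 : S.o 2 c * S.e 3 d f = S.e 3 d f * S.o 2 c := S.o_e1 2 c d f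
  -- the element `e 2 0 _` commutes with everything
  have Z : ∀ (z : F) {k : ℤ} (h1 : 0 ≤ k) (h2 : k ≤ 8) {y : G} (_ : y ∈ S.XZ k), y * S.e 2 0 z = S.e 2 0 z * y :=
    fun z k h1 h2 y hy => S.comm_Z4 h1 h2 hy z
  have Z3 : ∀ (z : F), S.e 3 d f * S.e 2 0 z = S.e 2 0 z * S.e 3 d f := fun z => Z z (k := 6) (by norm_num) (by norm_num) (S.mX6 d f)
  have Z5 : ∀ (z : F) (y : F), S.o 2 y * S.e 2 0 z = S.e 2 0 z * S.o 2 y := fun z y => Z z (k := 5) (by norm_num) (by norm_num) (S.mX5 y)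
  have Zo : ∀ (z : F), S.o 1 t * S.e 2 0 z = S.e 2 0 z * S.o 1 t := fun z => Z z (k := 3) (by norm_num) (by norm_num) (S.mX3 t)
  have Ze : ∀ (z : F), S.e 2 a b * S.e 2 0 z = S.e 2 0 z * S.e 2 a b := fun z => Z z (k := 4) (by norm_num) (by norm_num) (S.mX4 a b)
  have sE : S.e 1 0 u * S.e 1 0 u = 1 := by rw [Arc.e_sq, zero_mul, S.e_zero]
  have sO : S.o 1 t * S.o 1 t = 1 := by rw [S.o_add, S.add_self, S.o_zero]
  have sC : S.o 2 c * S.o 2 c = 1 := by rw [S.o_add, S.add_self, S.o_zero]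
  have sA : S.e 2 a b * S.e 2 a b = S.e 2 0 (a * σ a) := Arc.e_sq S 2 a b
  have sF : S.e 3 d f * S.e 3 d f = S.e 3 0 (d * σ d) := Arc.e_sq S 3 d f
  have sW : S.e 2 0 (t * d) * S.e 2 0 (t * d) = 1 := by rw [Arc.e_sq, zero_mul, S.e_zero]
  have sX : S.o 2 (a * d) * S.o 2 (a * d) = 1 := by rw [S.o_add, S.add_self, S.o_zero]
  -- `E` commutes with the rest
  set j := S.e 2 a b * S.o 2 c * S.e 3 d f with hj
  have hE : S.e 1 0 u * (S.o 1 t * j) = S.o 1 t * j * S.e 1 0 u := by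
    rw [hj]
    calc S.e 1 0 u * (S.o 1 t * (S.e 2 a b * S.o 2 c * S.e 3 d f)) =
        (S.e 1 0 u * S.o 1 t) * S.e 2 a b * S.o 2 c * S.e 3 d f := by group
      _ = S.o 1 t * (S.e 1 0 u * S.e 2 a b) * S.o 2 c * S.e 3 d f := by rw [E1]; group
      _ = S.o 1 t * S.e 2 a b * (S.e 1 0 u * S.o 2 c) * S.e 3 d f := by rw [E2]; group
      _ = S.o 1 t * S.e 2 a b * S.o 2 c * (S.e 1 0 u * S.e 3 d f) := by rw [E3]; group
      _ = _ := by rw [E4]; group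
  have hO : S.o 1 t * j = j * S.o 1 t * S.e 2 0 (t * d) := by
    rw [hj]
    calc S.o 1 t * (S.e 2 a b * S.o 2 c * S.e 3 d f) = (S.o 1 t * S.e 2 a b) * S.o 2 c * S.e 3 d f := by group
      _ = S.e 2 a b * (S.o 1 t * S.o 2 c) * S.e 3 d f := by rw [O2]; group
      _ = S.e 2 a b * S.o 2 c * (S.o 1 t * S.e 3 d f) := by rw [O3]; group
      _ = _ := by rw [O4]; group
  have hj2 : j * j = S.e 2 0 (a * σ a) * S.e 3 0 (d * σ d) * S.o 2 (a * d) := by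
    have h1 : S.e 3 d f * S.e 2 a b = S.e 2 a b * S.e 3 d f * S.o 2 (a * d) := by
      rw [A4, mul_assoc, sX, mul_one]
    have hXF : S.e 3 d f * S.o 2 (a * d) = S.o 2 (a * d) * S.e 3 d f := (S.o_e1 2 (a * d) d f).symm
    rw [hj]
    calc S.e 2 a b * S.o 2 c * S.e 3 d f * (S.e 2 a b * S.o 2 c * S.e 3 d f) =
        S.e 2 a b * S.o 2 c * (S.e 3 d f * S.e 2 a b) * (S.o 2 c * S.e 3 d f) := by group
      _ = S.e 2 a b * S.o 2 c * (S.e 2 a b * S.e 3 d f * S.o 2 (a * d)) * (S.e 3 d f * S.o 2 c) := by rw [h1, C4]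
      _ = S.e 2 a b * (S.o 2 c * S.e 2 a b) * S.e 3 d f * (S.o 2 (a * d) * S.e 3 d f) * S.o 2 c := by group
      _ = S.e 2 a b * (S.e 2 a b * S.o 2 c) * S.e 3 d f * (S.e 3 d f * S.o 2 (a * d)) * S.o 2 c := by rw [← A3, ← hXF]
      _ = (S.e 2 a b * S.e 2 a b) * S.o 2 c * (S.e 3 d f * S.e 3 d f) * S.o 2 (a * d) * S.o 2 c := by group
      _ = S.e 2 0 (a * σ a) * (S.o 2 c * S.e 3 0 (d * σ d)) * (S.o 2 (a * d) * S.o 2 c) := by rw [sA, sF]; group
      _ = S.e 2 0 (a * σ a) * (S.e 3 0 (d * σ d) * S.o 2 c) * (S.o 2 c * S.o 2 (a * d)) := by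
          have C5 : S.o 2 c * S.e 3 0 (d * σ d) = S.e 3 0 (d * σ d) * S.o 2 c := S.o_e1 2 c 0 (d * σ d)
          rw [C5, S.o_add, S.o_add, add_comm c]
      _ = S.e 2 0 (a * σ a) * S.e 3 0 (d * σ d) * (S.o 2 c * S.o 2 c) * S.o 2 (a * d) := by group
      _ = _ := by rw [sC, mul_one]
  calc S.e 1 0 u * S.o 1 t * j * (S.e 1 0 u * S.o 1 t * j) =
      S.e 1 0 u * (S.o 1 t * j * S.e 1 0 u) * (S.o 1 t * j) := by group
    _ = (S.e 1 0 u * S.e 1 0 u) * (S.o 1 t * j) * (S.o 1 t * j) := by rw [← hE]; group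
    _ = S.o 1 t * j * (S.o 1 t * j) := by rw [sE, one_mul]
    _ = S.o 1 t * (j * S.o 1 t) * j := by group
    _ = S.o 1 t * (S.o 1 t * j * S.e 2 0 (t * d)) * j := by
        have h2 : j * S.o 1 t = S.o 1 t * j * S.e 2 0 (t * d) := by
          rw [hO, mul_assoc (j * S.o 1 t), sW, mul_one]
        rw [h2]
    _ = (S.o 1 t * S.o 1 t) * (j * S.e 2 0 (t * d)) * j := by group
    _ = S.e 2 0 (t * d) * (j * j) := by
        have h3 : j * S.e 2 0 (t * d) = S.e 2 0 (t * d) * j := by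
          rw [hj]
          calc S.e 2 a b * S.o 2 c * S.e 3 d f * S.e 2 0 (t * d) = S.e 2 a b * S.o 2 c * (S.e 3 d f * S.e 2 0 (t * d)) := by
                group
            _ = S.e 2 a b * (S.o 2 c * S.e 2 0 (t * d)) * S.e 3 d f := by rw [Z3]; group
            _ = (S.e 2 a b * S.e 2 0 (t * d)) * S.o 2 c * S.e 3 d f := by rw [Z5]; group
            _ = _ := by rw [Ze]; group
        rw [sO, one_mul, h3, mul_assoc]
    _ = _ := by
        rw [hj2, ← mul_assoc, ← mul_assoc, S.e_mul]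
        congr 3
        · ring
        · rw [map_zero, mul_zero, add_zero, add_comm]

/-- a product `z_4 z_6 ∈ X_5` is trivial -/
theorem W46_zero {u v : F} (h : S.e 2 0 u * S.e 3 0 v ∈ S.XZ 5) : u = 0 ∧ v = 0 := by
  have h1 := S.W46_inf ⟨u, v, rfl⟩ h
  have h2 : S.e 2 0 u = (S.e 3 0 v)⁻¹ := eq_inv_of_mul_eq_one_left h1
  have h3 : S.e 2 0 u ∈ S.XZ 4 := S.mX4 0 u
  have h4 : S.e 2 0 u ∈ J S.XZ 5 6 := by
    rw [h2]
    exact inv_mem (mem_J (S.mX6 0 v) (by norm_num) (by norm_num))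
  have h5 := S.zsys8.inter 4 _ h3 (J_mono le_rfl (by norm_num) h4)
  rw [h5, one_mul] at h1
  exact ⟨(S.e_eq_one h5).2, (S.e_eq_one h1).2⟩

include hF hR in
/-- the elements of `D` in `Z_2 X_3 X_4 X_5 X_6` -/
theorem mem_X5_of_form {p : ℕ} (hp : p.Prime) (hp2 : p ≠ 2) (hpq : ¬ p ∣ Nat.card F - 1) {x : G} (hx : orderOf x = p)
    (hxH : x ∈ S.HO) {u : F} {r : G} (hr : r ∈ J S.XZ 3 6) (hc : S.e 1 0 u * r * x = x * (S.e 1 0 u * r)) :
    S.e 1 0 u * r ∈ S.XZ 5 := by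
  have hxp : x ^ p = 1 := by rw [← hx]; exact pow_orderOf_eq_one x
  have hx1 : x ≠ 1 := by
    rintro rfl
    rw [orderOf_one] at hx
    exact hp.one_lt.ne hx
  have Z8 := S.zsys8
  obtain ⟨x3, hx3, r1, hr1, rfl⟩ := Z8.split_ll (a := 3) (b := 6) (by norm_num) (by norm_num) hr
  obtain ⟨x4, hx4, r2, hr2, rfl⟩ := Z8.split_ll (a := 3 + 1) (b := 6) (by norm_num) (by norm_num) hr1
  obtain ⟨x5, hx5, r3, hr3, rfl⟩ := Z8.split_ll (a := 3 + 1 + 1) (b := 6) (by norm_num) (by norm_num) hr2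
  have hr3' : r3 ∈ S.XZ 6 := mem_of_J_self hr3 (by norm_num)
  obtain ⟨t, rfl⟩ := S.X3 hx3
  obtain ⟨a, b, rfl⟩ := S.X4 hx4
  obtain ⟨c, rfl⟩ := S.X5 hx5
  obtain ⟨d, f, rfl⟩ := S.X6 hr3'
  have e0 : S.e 1 0 u * (S.o 1 t * (S.e 2 a b * (S.o 2 c * S.e 3 d f))) =
      S.e 1 0 u * S.o 1 t * (S.e 2 a b * S.o 2 c * S.e 3 d f) := by group
  rw [e0] at hc ⊢
  set h := S.e 1 0 u * S.o 1 t * (S.e 2 a b * S.o 2 c * S.e 3 d f) with hh
  have hsq : h * h = S.e 2 0 (a * σ a + t * d) * S.e 3 0 (d * σ d) * S.o 2 (a * d) := sq_form S u t a b c d f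
  have h5 : h * h ∈ S.XZ 5 := by
    refine mem_X5_of_V5 S hF hR hp hp2 hpq hxp hx1 hxH ?_ ?_
    · rw [hsq]
      exact mul_mem (mem_sup_left ⟨_, _, rfl⟩) (mem_sup_right (S.mX5 _))
    · rw [mul_assoc, hc, ← mul_assoc, hc, mul_assoc]
  have h6 : S.e 2 0 (a * σ a + t * d) * S.e 3 0 (d * σ d) ∈ S.XZ 5 := by
    have := mul_mem h5 (inv_mem (S.mX5 (a * d)))
    rwa [hsq, mul_inv_cancel_right] at this
  obtain ⟨h7, h8⟩ := W46_zero S h6
  have hz : ∀ y : F, y * σ y = 0 → y = 0 := by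
    intro y hy
    rcases mul_eq_zero.1 hy with h | h
    · exact h
    · exact (map_eq_zero σ).1 h
  have hd := hz d h8
  rw [hd, mul_zero, add_zero] at h7
  have ha := hz a h7
  have h9 : h * h = 1 := by
    rw [hsq, ha, hd]
    simp only [zero_mul, mul_zero, add_zero, S.e_zero, S.o_zero, mul_one]
  refine inv_mem_X5 S hF hR hp hp2 hpq hx hxH ?_ h9 hc
  rw [hh]
  exact mul_mem (mul_mem (mem_J (S.mX2 0 u) (by norm_num) (by norm_num)) (mem_J (S.mX3 t) (by norm_num) (by norm_num)))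
    (mul_mem (mul_mem (mem_J (S.mX4 a b) (by norm_num) (by norm_num)) (mem_J (S.mX5 c) (by norm_num) (by norm_num)))
      (mem_J (S.mX6 d f) (by norm_num) (by norm_num)))

/-- `th` and elements of `HO` -/
theorem th_conj' {y r : G} (hy : y ∈ S.HO) : th S (y * r * y⁻¹) = y * th S r * y⁻¹ := by
  have h1 : y * S.o 2 1 = S.o 2 1 * y :=
    ((Subgroup.mem_centralizer_iff.1 (S.HO_le_cent hy)) _ (o21_mem S)).symm
  have h2 : y⁻¹ * S.o 2 1 * y = S.o 2 1 := by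
    rw [mul_assoc, ← h1, inv_mul_cancel_left]
  have h3 : y * (S.o 2 1)⁻¹ * y⁻¹ = (S.o 2 1)⁻¹ := by
    have h4 : y * (S.o 2 1)⁻¹ = (S.o 2 1)⁻¹ * y := Commute.inv_right (show Commute y (S.o 2 1) from h1)
    rw [h4, mul_inv_cancel_right]
  calc th S (y * r * y⁻¹) = y * r * (y⁻¹ * S.o 2 1 * y) * r⁻¹ * y⁻¹ * (S.o 2 1)⁻¹ := by unfold th; group
    _ = y * r * S.o 2 1 * r⁻¹ * y⁻¹ * (y * (S.o 2 1)⁻¹ * y⁻¹) := by rw [h2, h3]
    _ = _ := by unfold th; group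

include hF hR in
/-- **class 2B**: `|C_{J 2 8}(x)| ≤ q³` -/
theorem card_D28 {p : ℕ} (hp : p.Prime) (hp2 : p ≠ 2) (hpq : ¬ p ∣ Nat.card F - 1) {x : G} (hx : orderOf x = p)
    (hxH : x ∈ S.HO) : Nat.card ↥(J S.XZ 2 8 ⊓ centralizer ({x} : Set G)) ≤ Nat.card F ^ 3 := by
  have hxp : x ^ p = 1 := by rw [← hx]; exact pow_orderOf_eq_one x
  have hx1 : x ≠ 1 := by
    rintro rfl
    rw [orderOf_one] at hx
    exact hp.one_lt.ne hx
  have hNO : ∀ c : ↥(J S.XZ 2 8 ⊓ centralizer ({x} : Set G)), (c : G) ∈ S.NO := by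
    intro c
    have hcx := mem_centralizer_singleton_iff.1 c.2.2
    refine mem_NO_of_th S c.2.1 ?_
    by_contra h1
    have h2 : x * (c : G) * x⁻¹ = c := by rw [← hcx, mul_inv_cancel_right]
    have h3 := th_conj' S (y := x) (r := (c : G)) hxH
    rw [h2] at h3
    refine hpq (Cfsg.Agent.PreUniq.LowExc.TwF4.ho_case S hF hR hp hp2 hxp hx1 hxH (th_mem S c.2.1) h1 ?_)
    exact (eq_mul_inv_iff_mul_eq.1 h3).symm
  have hform : ∀ c : ↥(J S.XZ 2 8 ⊓ centralizer ({x} : Set G)), ∃ u s v : F, ∃ r ∈ J S.XZ 3 6,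
      (c : G) = S.e 1 0 u * r * S.o 3 s * S.e 4 0 v := by
    intro c
    obtain ⟨u, v, r, hr, e⟩ := S.mem_NO_iff.1 (hNO c)
    obtain ⟨r', hr', y, hy, rfl⟩ := S.zsys8.split_rr (a := 3) (b := 7) (by norm_num) (by norm_num) hr
    obtain ⟨s, rfl⟩ := S.X7 hy
    refine ⟨u, s, v, r', J_mono le_rfl (by norm_num) hr', ?_⟩
    rw [e]; group
  choose u s v r hr hf using hform
  have h1 := card_le_of_fib (D := J S.XZ 2 8 ⊓ centralizer ({x} : Set G)) (E := S.XZ 5) (T := F × F)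
    (fun c => (s c, v c)) (fun c c' h => by
      have hs : s c = s c' := congrArg Prod.fst h
      have hv : v c = v c' := congrArg Prod.snd h
      have e1 : (c : G) * (c' : G)⁻¹ = S.e 1 0 (u c) * (r c * (r c')⁻¹) * (S.e 1 0 (u c'))⁻¹ := by
        rw [hf c, hf c', hs, hv]; group
      have e2 : (S.e 1 0 (u c'))⁻¹ = S.e 1 0 (u c') := by
        rw [Arc.e_inv, zero_mul, add_zero]
      -- move `e 1 0` to the left
      have h2 : S.e 1 0 (u c') * (r c * (r c')⁻¹) * (S.e 1 0 (u c'))⁻¹ ∈ J S.XZ 3 6 := by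
        have h3 := S.zsys8.conj_J (a := 3) (b := 6) (c := 2) (d := 2) (by norm_num) (by norm_num) (by norm_num)
          (mem_J (S.mX2 0 (u c')) le_rfl le_rfl) (mul_mem (hr c) (inv_mem (hr c')))
        exact h3
      have e3 : (c : G) * (c' : G)⁻¹ = S.e 1 0 (u c + u c') *
          (S.e 1 0 (u c') * (r c * (r c')⁻¹) * (S.e 1 0 (u c'))⁻¹) := by
        have e4 : S.e 1 0 (u c + u c') * S.e 1 0 (u c') = S.e 1 0 (u c) := by
          rw [S.e_mul, map_zero, mul_zero, add_zero, add_zero, add_assoc, S.add_self, add_zero]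
        rw [e1, ← e4]; group
      rw [e3]
      refine mem_X5_of_form S hF hR hp hp2 hpq hx hxH h2 ?_
      rw [← e3]
      exact mem_centralizer_singleton_iff.1 (mul_mem c.2.2 (inv_mem c'.2.2)))
  have h5 : Nat.card (S.XZ 5) = Nat.card F := by
    have := Cfsg.Agent.H42.Tw.card_odd S 2
    rwa [show (2 : ℤ) * 2 + 1 = 5 by ring] at this
  calc _ ≤ Nat.card (S.XZ 5) * Nat.card (F × F) := h1
    _ = Nat.card F ^ 3 := by rw [h5, Nat.card_prod]; ring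

end

end Cfsg.Agent.H67.RG
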