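import Mathlib
import Cfsg.Agent.H67.RG.TwFD
import Cfsg.Agent.H448.TwFC.Small
import Cfsg.Agent.H448.TwFC.Minus

/-!
# `²F₄(q)`: the centraliser of an element of odd prime order has order at most `q⁸` (helper67)
-/

set_option autoImplicit false
set_option linter.unusedSectionVars false

namespace Cfsg.Agent.H67.RG

open Cfsg.Agent.KFacts.TwF4 Cfsg.Agent.KFacts.TwF4.Full Cfsg.Agent.KFacts.TwF4.SylU
open Cfsg.Agent.SplitTwo Cfsg.Agent.SplitTwo.ZS Cfsg.Agent.TitsThree.RankTwoZ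
open Cfsg.Agent.SplitTwo.RootSysZ Subgroup MulAction Cfsg.Agent.H448.FprTwF

universe u v

theorem card_centralizer_conj {G : Type*} [Group G] [Finite G] (x k : G) :
    Nat.card ↥(centralizer ({x} : Set G)) ≤ Nat.card ↥(centralizer ({k * x * k⁻¹} : Set G)) := by
  refine Nat.card_le_card_of_injective (fun y => ⟨k * y * k⁻¹, ?_⟩) ?_
  · rw [mem_centralizer_singleton_iff]
    have h := mem_centralizer_singleton_iff.1 y.2
    calc k * y * k⁻¹ * (k * x * k⁻¹) = k * ((y : G) * x) * k⁻¹ := by group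
      _ = k * (x * y) * k⁻¹ := by rw [h]
      _ = _ := by group
  · intro a b hab
    have h : k * (a : G) * k⁻¹ = k * (b : G) * k⁻¹ := congrArg Subtype.val hab
    exact Subtype.ext (mul_left_cancel (mul_right_cancel h))

theorem num17 {q d : ℕ} (hq : 1 ≤ q) (hd : d ≤ q ^ 2) : (d + 1) * ((q ^ 2 + 1) * (d * (q - 1))) ≤ q ^ 8 := by
  obtain ⟨r, rfl⟩ : ∃ r, q = r + 1 := ⟨q - 1, by omega⟩
  rw [Nat.add_sub_cancel]
  calc (d + 1) * (((r + 1) ^ 2 + 1) * (d * r)) ≤ ((r + 1) ^ 2 + 1) * (((r + 1) ^ 2 + 1) * ((r + 1) ^ 2 * r)) := by gcongr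
    _ ≤ _ := by
      have e : (r + 1) ^ 8 = ((r + 1) ^ 2 + 1) * (((r + 1) ^ 2 + 1) * ((r + 1) ^ 2 * r)) +
        (r + 1) ^ 2 * (r ^ 6 + 5 * r ^ 5 + 11 * r ^ 4 + 12 * r ^ 3 + 7 * r ^ 2 + 2 * r + 1) := by ring
      rw [e]
      exact Nat.le_add_right _ _

theorem num28 {q d : ℕ} (hq : 1 ≤ q) (hd : d ≤ q ^ 3) : (d + 1) * ((q + 1) * (d * (q - 1))) ≤ q ^ 8 := by
  obtain ⟨r, rfl⟩ : ∃ r, q = r + 1 := ⟨q - 1, by omega⟩
  rw [Nat.add_sub_cancel]
  calc (d + 1) * ((r + 1 + 1) * (d * r)) ≤ ((r + 1) ^ 3 + 1) * ((r + 1 + 1) * ((r + 1) ^ 3 * r)) := by gcongr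
    _ ≤ _ := by
      have e : (r + 1) ^ 8 = ((r + 1) ^ 3 + 1) * ((r + 1 + 1) * ((r + 1) ^ 3 * r)) +
        (r + 1) ^ 3 * (r ^ 3 + 2 * r ^ 2 + r + 1) := by ring
      rw [e]
      exact Nat.le_add_right _ _

/-- **An element of prime order `p ∤ 2 (q - 1)` commuting with an involution.** -/
theorem card_cent_inv {F : Type u} [Field F] {σ : F →+* F} {G : Type v} [Group G] (S : Full σ G) [Finite G] [Finite F]
    (hF : ∃ c : Fˣ, c ≠ 1) (hR : S.R.p = 2) {p : ℕ} (hp : p.Prime) (hp2 : p ≠ 2) (hpq : ¬ p ∣ Nat.card F - 1)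
    {x t : G} (hx : orderOf x = p) (ht : orderOf t = 2) (hc : Commute t x) :
    Nat.card ↥(centralizer ({x} : Set G)) ≤ Nat.card F ^ 8 := by
  have hq : 1 ≤ Nat.card F := Nat.card_pos
  have ht2 : t * t = 1 := by rw [← pow_two, ← ht]; exact pow_orderOf_eq_one t
  have ht1 : t ≠ 1 := by
    rintro rfl
    rw [orderOf_one] at ht
    exact absurd ht (by norm_num)
  have ho : ∀ k : G, orderOf (k * x * k⁻¹) = p := by
    intro k
    rw [← hx]
    exact orderOf_injective (MulAut.conj k).toMonoidHom (MulAut.conj k).injective x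
  have hpow : ∀ {y : G}, orderOf y = p → y ^ p = 1 ∧ y ≠ 1 := by
    intro y hy
    refine ⟨by rw [← hy]; exact pow_orderOf_eq_one y, ?_⟩
    rintro rfl
    rw [orderOf_one] at hy
    exact hp.one_lt.ne hy
  have hcen : ∀ k : G, k * x * k⁻¹ * (k * t * k⁻¹) = k * t * k⁻¹ * (k * x * k⁻¹) := by
    intro k
    calc k * x * k⁻¹ * (k * t * k⁻¹) = k * (x * t) * k⁻¹ := by group
      _ = k * (t * x) * k⁻¹ := by rw [hc.eq]
      _ = _ := by group
  rcases classes S hF hR ht2 ht1 with ⟨u, hu, k, hk⟩ | ⟨s, hs, k, hk⟩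
  · have e1 : S.rot * (S.rot * k) * t * (S.rot * (S.rot * k))⁻¹ = S.e 2 0 u := by
      calc S.rot * (S.rot * k) * t * (S.rot * (S.rot * k))⁻¹ = S.rot * (S.rot * (k * t * k⁻¹) * S.rot⁻¹) * S.rot⁻¹ := by
            group
        _ = S.e 2 0 u := by rw [hk, S.rot_e, S.rot_e]; rfl
    have hz1 : S.e 2 0 u ≠ 1 := fun h => hu (S.e_eq_one h).2
    set g := S.rot * (S.rot * k)
    have h1 : g * x * g⁻¹ ∈ S.PL := by
      rw [← S.centralizer_z (z := S.e 2 0 u) ⟨u, rfl⟩ hz1, Subgroup.mem_centralizer_singleton_iff, ← e1]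
      exact hcen _
    obtain ⟨h2, h3⟩ := hpow (ho g)
    exact (card_centralizer_conj x g).trans ((card_cent17 hF hR hp hp2 hpq h2 h3 (PL_le_N17 S h1)).trans
      (num17 hq (card_D17 S hF hR hp hp2 hpq (ho g) h1)))
  · have e1 : S.rot * (S.rot * k) * t * (S.rot * (S.rot * k))⁻¹ = S.o 2 s := by
      calc S.rot * (S.rot * k) * t * (S.rot * (S.rot * k))⁻¹ = S.rot * (S.rot * (k * t * k⁻¹) * S.rot⁻¹) * S.rot⁻¹ := by
            group
        _ = S.o 2 s := by rw [hk, S.rot_o, S.rot_o]; rfl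
    set g := S.rot * (S.rot * k)
    have h1 : g * x * g⁻¹ ∈ S.HO := by
      rw [← S.centralizer_o hs, Subgroup.mem_centralizer_singleton_iff, ← e1]
      exact hcen _
    obtain ⟨h2, h3⟩ := hpow (ho g)
    exact (card_centralizer_conj x g).trans ((card_cent28 hF hR hp hp2 hpq h2 h3 (HO_le_N28 S h1)).trans
      (num28 hq (card_D28 S hF hR hp hp2 hpq (ho g) h1)))

open Cfsg.Lie

/-- **T3**: `|C(x)| ≤ q⁸` for every `x ∈ ²F₄(q)` of odd prime order, `q ≥ 8`. -/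
theorem card_cent_le {K : Type u} [Field K] [Fintype K] {m : ℕ} (hm : 1 ≤ m) (hK : Fintype.card K = 2 ^ (2 * m + 1))
    {x : ↥(twistedF4 K (2 ^ m))} {p : ℕ} (hp : p.Prime) (hp2 : p ≠ 2) (hx : orderOf x = p) :
    Nat.card ↥(centralizer ({x} : Set ↥(twistedF4 K (2 ^ m)))) ≤ Nat.card K ^ 8 := by
  have hcK : Nat.card K = 2 ^ (2 * m + 1) := by rw [Nat.card_eq_fintype_card, hK]
  have h8 : 8 ≤ Nat.card K := by
    rw [hcK]
    calc 8 = 2 ^ 3 := by norm_num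
      _ ≤ _ := Nat.pow_le_pow_right (by norm_num) (by omega)
  by_cases hpq : p ∣ Nat.card K - 1
  · exact Cfsg.Agent.H448.TwFC.card_cent_minus hm hK hp hpq hx
  obtain ⟨φ, hφ⟩ := Cfsg.Agent.ChevalleyStructure.TwF4.TwistedFix.exists_rln hK
  have := Cfsg.Agent.ChevalleyStructure.TwF4.Twisted.charP_two hK
  have hfin : Finite ↥(twistedF4 K (2 ^ m)) := inferInstance
  have hF : ∃ c : Kˣ, c ≠ 1 := by
    have h1 : 1 < Nat.card Kˣ := by
      rw [Nat.card_units]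
      omega
    have h2 : Nontrivial Kˣ := Finite.one_lt_card_iff_nontrivial.1 h1
    exact exists_ne 1
  obtain ⟨S, hS⟩ : ∃ S : Full φ ↥(twistedF4 K (2 ^ m)), S.R.p = 2 :=
    ⟨Cfsg.Agent.KFacts.TwF4.Inst.full hK hφ, rfl⟩
  by_cases h3 : p = 3
  · subst h3
    obtain ⟨v, hv, hc⟩ := Cfsg.Agent.H448.TwFC.comm_inv_three hK hx
    exact card_cent_inv S hF hS hp hp2 hpq hx hv hc
  · have hp5 : 5 ≤ p := by
      have h4 := hp.two_le
      by_contra hcon
      have h5 : p = 2 ∨ p = 3 ∨ p = 4 := by omega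
      rcases h5 with h | h | h
      · exact hp2 h
      · exact h3 h
      · rw [h] at hp
        exact absurd hp (by norm_num)
    rcases Cfsg.Agent.H448.TwFC.cent_ste_q8 hm hK hp hp5 hx with ⟨v, hv, hc⟩ | h
    · exact card_cent_inv S hF hS hp hp2 hpq hx hv hc
    · exact h

end Cfsg.Agent.H67.RG
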