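import Mathlib
import Cfsg.Agent.H67.RG.TwFCent
import Cfsg.Agent.H660.RF.Row

/-!
# The row `²F₄(q)`, `q ≥ 8` (helper67)
-/

set_option autoImplicit false

namespace Cfsg.Agent.H67.RG

open Cfsg.Agent.H873.RG

/-- **The row `²F₄(q)`, `q ≥ 8`.** -/
theorem row_twF4 : RowX (fun S _ => Cfsg.Lie.Iso2F4 S) :=
  Cfsg.Agent.H660.RF.row_of fun _ _ _ _ hm hK _ _ hp h2 _ _ _ => card_cent_le hm hK hp h2 rfl

end Cfsg.Agent.H67.RG
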